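import Cfsg.Agent.Eq.Def_Local
import Cfsg.Agent.Eq.Def_Solvable
import Cfsg.Agent.Eq.Def_Transfer
import Cfsg.Agent.Eq.Def_TwoFusion
import Cfsg.Agent.Eq.Def_IsolatedElements
import Cfsg.Agent.SolvSignalizer.PrimeCoreOf
import Cfsg.Agent.Transfer.NormalPComplement
import Cfsg.Agent.StronglyEmbedded.Basic
import Cfsg.Agent.LocalCharP.StronglyEmbedded
import Cfsg.Agent.ZStar.IsolatedSylow
import Cfsg.Agent.S0205

/-!
The standing hypotheses on a Sylow 2-subgroup: fusion is controlled by its normaliser and the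
centralisers of involutions have normal 2-complements.
-/

set_option autoImplicit false
set_option linter.style.haveILetI false
set_option linter.unusedSectionVars false

universe u

namespace CfsgLib.LocalFusion83

open Cfsg
open CfsgLib.SolvSignalizer (uCoreOf uCoreOf_le le_normalizer_uCoreOf not_dvd_uCoreOf)
open CfsgLib.StronglyEmbedded (orderOf_two_iff)

/-- In a group with a normal 2-complement the elements of odd order lie in the core. -/
theorem mem_core_of_odd {X : Type*} [Group X] [Finite X] (h : HasNormalPComplement 2 X) {g : X}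
    (hg : Odd (orderOf g)) : g ∈ pPrimeCore 2 X := by
  haveI : Fact (Nat.Prime 2) := ⟨Nat.prime_two⟩
  obtain ⟨Q, N, hN, hc⟩ := h
  have hNodd : ¬ 2 ∣ Nat.card N := by
    rw [← hc.index_eq_card]
    exact Q.not_dvd_index
  refine Constrained.le_pPrimeCore_of_not_dvd hN hNodd ?_
  haveI := hN
  obtain ⟨k, hk⟩ := IsPGroup.iff_card.1 Q.isPGroup'
  have hidx : N.index = 2 ^ k := by rw [hc.symm.index_eq_card, hk]
  rw [← QuotientGroup.eq_one_iff, ← orderOf_eq_one_iff]
  refine Nat.eq_one_of_dvd_coprimes ((Nat.coprime_two_left.2 hg).pow_left k) ?_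
    (orderOf_map_dvd (QuotientGroup.mk' N) g)
  rw [← hidx, Subgroup.index_eq_card]
  exact orderOf_dvd_natCard _

/-- The index of the core of a group with a normal 2-complement is a power of two. -/
theorem exists_index_core {X : Type*} [Group X] [Finite X] (h : HasNormalPComplement 2 X) :
    ∃ k : ℕ, (pPrimeCore 2 X).index ∣ 2 ^ k := by
  haveI : Fact (Nat.Prime 2) := ⟨Nat.prime_two⟩
  obtain ⟨Q, N, hN, hc⟩ := h
  have hNodd : ¬ 2 ∣ Nat.card N := by
    rw [← hc.index_eq_card]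
    exact Q.not_dvd_index
  obtain ⟨k, hk⟩ := IsPGroup.iff_card.1 Q.isPGroup'
  exact ⟨k, by
    rw [← hk, ← hc.symm.index_eq_card]
    exact Subgroup.index_dvd_of_le (Constrained.le_pPrimeCore_of_not_dvd hN hNodd)⟩

variable {G : Type u} [Group G] [Finite G]

/-- The hypotheses (without the one on pairs of elements). -/
structure Hyp (P : Sylow 2 G) : Prop where
  core : pPrimeCore 2 G = ⊥
  nn : ¬ (P : Subgroup G).Normal
  fus : ∀ x ∈ (P : Subgroup G), ∀ y ∈ (P : Subgroup G), (∃ g : G, g * x * g⁻¹ = y) →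
    ∃ n ∈ Subgroup.normalizer ((P : Subgroup G) : Set G), n * x * n⁻¹ = y
  cent : ∀ x ∈ (P : Subgroup G), orderOf x = 2 →
    HasNormalPComplement 2 ↥(Subgroup.centralizer ({x} : Set G))
  notAll : ¬ (IsElementaryAbelian 2 (P : Subgroup G) ∧
    ∀ x ∈ (P : Subgroup G), ∀ y ∈ (P : Subgroup G), x ≠ 1 → y ≠ 1 → ∃ g : G, g * x * g⁻¹ = y)

/-- The largest normal subgroup of odd order of the centraliser. -/
abbrev theta (x : G) : Subgroup G := uCoreOf 2 (Subgroup.centralizer ({x} : Set G))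

omit [Finite G] in
theorem mem_centralizer_self (x : G) : x ∈ Subgroup.centralizer ({x} : Set G) :=
  Subgroup.mem_centralizer_singleton_iff.2 rfl

omit [Finite G] in
theorem map_centralizer (g x : G) :
    (Subgroup.centralizer ({x} : Set G)).map (MulAut.conj g).toMonoidHom =
      Subgroup.centralizer ({g * x * g⁻¹} : Set G) := by
  ext k
  rw [Subgroup.mem_map_equiv, MulAut.conj_symm_apply, Subgroup.mem_centralizer_singleton_iff,
    Subgroup.mem_centralizer_singleton_iff]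
  constructor
  · intro h
    calc k * (g * x * g⁻¹) = g * (g⁻¹ * k * g * x) * g⁻¹ := by group
      _ = g * (x * (g⁻¹ * k * g)) * g⁻¹ := by rw [h]
      _ = g * x * g⁻¹ * k := by group
  · intro h
    calc g⁻¹ * k * g * x = g⁻¹ * (k * (g * x * g⁻¹)) * g := by group
      _ = g⁻¹ * (g * x * g⁻¹ * k) * g := by rw [h]
      _ = x * (g⁻¹ * k * g) := by group

/-- Every involution has a conjugate in a given Sylow 2-subgroup. -/
theorem exists_conj_mem (P : Sylow 2 G) {x : G} (hx : orderOf x = 2) :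
    ∃ g : G, g * x * g⁻¹ ∈ (P : Subgroup G) := by
  haveI : Fact (Nat.Prime 2) := ⟨Nat.prime_two⟩
  obtain ⟨g, -, hg⟩ := LocalCharP.exists_conj_mem_sylow P le_top (Subgroup.zpowers x) le_top
    (IsPGroup.of_card (n := 1) (by rw [Nat.card_zpowers, hx, pow_one]))
  exact ⟨g, hg x (Subgroup.mem_zpowers x)⟩

variable {P : Sylow 2 G}

theorem Hyp.npc (h : Hyp P) {x : G} (hx : orderOf x = 2) :
    HasNormalPComplement 2 ↥(Subgroup.centralizer ({x} : Set G)) := by
  haveI : Fact (Nat.Prime 2) := ⟨Nat.prime_two⟩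
  obtain ⟨g, hg⟩ := exists_conj_mem P hx
  exact (Transfer.hasNormalPComplement_congr
    (((Subgroup.centralizer ({x} : Set G)).equivMapOfInjective (MulAut.conj g).toMonoidHom
      (MulAut.conj g).injective).trans (MulEquiv.subgroupCongr (map_centralizer g x)))).2
    (h.cent _ hg (by rw [StronglyEmbedded.orderOf_conj, hx]))

omit [Finite G] in
theorem commute_of_mem_theta {x n : G} (hn : n ∈ theta x) : n * x = x * n :=
  Subgroup.mem_centralizer_singleton_iff.1 (uCoreOf_le 2 _ hn)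

theorem odd_orderOf_theta {x n : G} (hn : n ∈ theta x) : Odd (orderOf n) := by
  haveI : Fact (Nat.Prime 2) := ⟨Nat.prime_two⟩
  rw [← Nat.not_even_iff_odd, even_iff_two_dvd]
  exact fun hd => not_dvd_uCoreOf 2 _ (hd.trans (Subgroup.orderOf_dvd_natCard _ hn))

theorem odd_card_theta (x : G) : Odd (Nat.card (theta x)) := by
  haveI : Fact (Nat.Prime 2) := ⟨Nat.prime_two⟩
  rw [← Nat.not_even_iff_odd, even_iff_two_dvd]
  exact not_dvd_uCoreOf 2 _

theorem theta_solvable (x : G) : Group.IsSolvable (theta x) :=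
  Cfsg.Agent.S0205.result (odd_card_theta x)

/-- The elements of odd order of the centraliser of an involution form its core. -/
theorem Hyp.mem_theta_of_odd (h : Hyp P) {x : G} (hx : orderOf x = 2) {g : G}
    (hg : g * x = x * g) (hodd : Odd (orderOf g)) : g ∈ theta x :=
  ⟨⟨g, Subgroup.mem_centralizer_singleton_iff.2 hg⟩, mem_core_of_odd (h.npc hx)
    (by rwa [Subgroup.orderOf_mk]), rfl⟩

theorem conj_mem_theta {x c n : G} (hc : c * x = x * c) (hn : n ∈ theta x) :
    c * n * c⁻¹ ∈ theta x :=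
  (Subgroup.mem_normalizer_iff.1
    (le_normalizer_uCoreOf 2 _ (Subgroup.mem_centralizer_singleton_iff.2 hc)) n).1 hn

/-- Balance for commuting involutions. -/
theorem Hyp.balance (h : Hyp P) (a : G) {b : G} (hb : orderOf b = 2) :
    theta a ⊓ Subgroup.centralizer ({b} : Set G) ≤ theta b := fun _ hx =>
  h.mem_theta_of_odd hb (Subgroup.mem_centralizer_singleton_iff.1 hx.2) (odd_orderOf_theta hx.1)

/-- An element of odd order of the centraliser of an involution centralises every 2-subgroup of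
that centraliser which it normalises. -/
theorem Hyp.commute_of_odd_normalizing (h : Hyp P) {x : G} (hx : orderOf x = 2) {Q : Subgroup G}
    (hQ : IsPGroup 2 Q) (hQx : ∀ q ∈ Q, q * x = x * q) {n : G} (hn : n * x = x * n)
    (hodd : Odd (orderOf n)) (hnQ : ∀ q ∈ Q, n * q * n⁻¹ ∈ Q) {q : G} (hq : q ∈ Q) :
    n * q = q * n := by
  haveI : Fact (Nat.Prime 2) := ⟨Nat.prime_two⟩
  have hnθ := h.mem_theta_of_odd hx hn hodd
  have h1 : n * q * n⁻¹ * q⁻¹ ∈ Q := mul_mem (hnQ q hq) (inv_mem hq)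
  have h2 : n * q * n⁻¹ * q⁻¹ ∈ theta x := by
    have := mul_mem hnθ (conj_mem_theta (hQx q hq) (inv_mem hnθ))
    simpa [mul_assoc] using this
  obtain ⟨k, hk⟩ := IsPGroup.iff_orderOf.1 hQ ⟨_, h1⟩
  rw [Subgroup.orderOf_mk] at hk
  have h3 : orderOf (n * q * n⁻¹ * q⁻¹) = 1 :=
    Nat.eq_one_of_dvd_coprimes ((Nat.coprime_two_left.2 (odd_orderOf_theta h2)).pow_left k)
      hk.dvd dvd_rfl
  exact mul_inv_eq_iff_eq_mul.1 (mul_inv_eq_one.1 (orderOf_eq_one_iff.1 h3))

/-- The central elements of `P` killed by two. -/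
def zc (P : Sylow 2 G) : Subgroup G where
  carrier := {x | x ∈ (P : Subgroup G) ∧ x * x = 1 ∧ ∀ s ∈ (P : Subgroup G), s * x = x * s}
  one_mem' := ⟨one_mem _, one_mul 1, fun s _ => by simp⟩
  mul_mem' := fun {a b} ha hb => by
    refine ⟨mul_mem ha.1 hb.1, ?_, fun s hs => ?_⟩
    · rw [Commute.mul_mul_mul_comm (hb.2.2 a ha.1).symm, ha.2.1, hb.2.1, one_mul]
    · exact ((show Commute s a from ha.2.2 s hs).mul_right (hb.2.2 s hs)).eq
  inv_mem' := fun {a} ha => by
    rwa [inv_eq_of_mul_eq_one_right ha.2.1]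

omit [Finite G] in
theorem mem_zc {x : G} :
    x ∈ zc P ↔ x ∈ (P : Subgroup G) ∧ x * x = 1 ∧ ∀ s ∈ (P : Subgroup G), s * x = x * s := Iff.rfl

omit [Finite G] in
theorem zc_le : zc P ≤ (P : Subgroup G) := fun _ hx => hx.1

omit [Finite G] in
theorem orderOf_zc {z : G} (hz : z ∈ zc P) (hz1 : z ≠ 1) : orderOf z = 2 :=
  orderOf_two_iff.2 ⟨hz.2.1, hz1⟩

omit [Finite G] in
theorem commute_zc {z : G} (hz : z ∈ zc P) {s : G} (hs : s ∈ (P : Subgroup G)) : s * z = z * s :=
  hz.2.2 s hs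

theorem normalizer_conj_zc {z n : G} (hn : n ∈ Subgroup.normalizer ((P : Subgroup G) : Set G))
    (hz : z ∈ zc P) : n * z * n⁻¹ ∈ zc P := by
  refine ⟨(Subgroup.mem_normalizer_iff.1 hn z).1 hz.1, ?_, fun s hs => ?_⟩
  · rw [show n * z * n⁻¹ * (n * z * n⁻¹) = n * (z * z) * n⁻¹ by group, hz.2.1]; group
  · have h1 : n⁻¹ * s * n ∈ (P : Subgroup G) := by
      have := (Subgroup.mem_normalizer_iff.1 (inv_mem hn) s).1 hs
      rwa [inv_inv] at this
    calc s * (n * z * n⁻¹) = n * (n⁻¹ * s * n * z) * n⁻¹ := by group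
      _ = n * (z * (n⁻¹ * s * n)) * n⁻¹ := by rw [hz.2.2 _ h1]
      _ = n * z * n⁻¹ * s := by group

/-- The subgroup `zc P` is strongly closed in `P`. -/
theorem Hyp.zc_closed (h : Hyp P) {z : G} (hz : z ∈ zc P) {g : G}
    (hg : g * z * g⁻¹ ∈ (P : Subgroup G)) : g * z * g⁻¹ ∈ zc P := by
  obtain ⟨n, hn, hnz⟩ := h.fus z hz.1 _ hg ⟨g, rfl⟩
  rw [← hnz]
  exact normalizer_conj_zc hn hz

theorem Hyp.ne_bot (h : Hyp P) : (P : Subgroup G) ≠ ⊥ := fun e => h.nn (e ▸ inferInstance)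

theorem Hyp.exists_zc (h : Hyp P) : ∃ z ∈ zc P, z ≠ 1 := by
  haveI : Fact (Nat.Prime 2) := ⟨Nat.prime_two⟩
  obtain ⟨t, htP, ht2, htc⟩ := LocalCharP.exists_central_orderOf_eq P.isPGroup' h.ne_bot
  refine ⟨t, ⟨htP, (orderOf_two_iff.1 ht2).1, fun s hs => ?_⟩, (orderOf_two_iff.1 ht2).2⟩
  exact htc s hs

/-- The centraliser of an involution of `zc P` is the product of its core and `P`. -/
theorem Hyp.exists_decomp (h : Hyp P) {z : G} (hz : z ∈ zc P) (hz1 : z ≠ 1) {c : G}
    (hc : c * z = z * c) : ∃ n ∈ theta z, ∃ s ∈ (P : Subgroup G), c = n * s := by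
  haveI : Fact (Nat.Prime 2) := ⟨Nat.prime_two⟩
  set C := Subgroup.centralizer ({z} : Set G) with hC
  have hPC : (P : Subgroup G) ≤ C := fun s hs =>
    Subgroup.mem_centralizer_singleton_iff.2 (hz.2.2 s hs)
  set N := pPrimeCore 2 C with hN
  set S : Subgroup C := (P.subtype hPC : Subgroup C) with hS
  have htop : N ⊔ S = ⊤ := by
    rw [← Subgroup.index_eq_one]
    obtain ⟨k, hk⟩ := exists_index_core (h.npc (orderOf_zc hz hz1))
    have hodd : ¬ 2 ∣ (N ⊔ S).index := fun hd =>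
      (P.subtype hPC).not_dvd_index (hd.trans (Subgroup.index_dvd_of_le le_sup_right))
    exact Nat.eq_one_of_dvd_coprimes
      (((Nat.prime_two.coprime_iff_not_dvd).2 hodd).pow_left k)
      ((Subgroup.index_dvd_of_le le_sup_left).trans hk) dvd_rfl
  have hcmem : (⟨c, Subgroup.mem_centralizer_singleton_iff.2 hc⟩ : C) ∈ N ⊔ S :=
    htop ▸ Subgroup.mem_top _
  obtain ⟨n, hn, s, hs, hns⟩ := Subgroup.mem_sup_of_normal_left.1 hcmem
  exact ⟨n, ⟨n, hn, rfl⟩, s, by
    rw [hS, Sylow.coe_subtype, Subgroup.mem_subgroupOf] at hs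
    exact hs, (congrArg Subtype.val hns).symm⟩

/-- A normal subgroup centralising an involution is a 2-group. -/
theorem Hyp.isPGroup_of_normal_centralizing (h : Hyp P) {X : Subgroup G} [X.Normal] {z : G}
    (hz : orderOf z = 2) (hX : ∀ x ∈ X, x * z = z * x) : IsPGroup 2 X := by
  haveI : Fact (Nat.Prime 2) := ⟨Nat.prime_two⟩
  haveI hn : (X ⊓ theta z).Normal := ⟨fun x hx g => by
    have h1 : g * x * g⁻¹ ∈ X := ‹X.Normal›.conj_mem x hx.1 g
    exact ⟨h1, h.mem_theta_of_odd hz (hX _ h1) (by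
      rw [StronglyEmbedded.orderOf_conj]; exact odd_orderOf_theta hx.2)⟩⟩
  have hbot : X ⊓ theta z = ⊥ := by
    rw [eq_bot_iff, ← h.core]
    exact Constrained.le_pPrimeCore_of_not_dvd hn fun hd =>
      not_dvd_uCoreOf 2 (Subgroup.centralizer ({z} : Set G))
        (hd.trans (Subgroup.card_dvd_of_le inf_le_right))
  refine IsPGroup.iff_orderOf.2 fun x => ?_
  obtain ⟨j, m, hm, hjm⟩ := Nat.exists_eq_two_pow_mul_odd (orderOf_pos x).ne'
  refine ⟨j, ?_⟩
  have hxm : ((x : G) ^ 2 ^ j) ∈ X ⊓ theta z := by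
    refine ⟨pow_mem x.2 _, h.mem_theta_of_odd hz (hX _ (pow_mem x.2 _)) ?_⟩
    rw [orderOf_pow, Subgroup.orderOf_coe, hjm, Nat.gcd_mul_right_left,
      Nat.mul_div_cancel_left _ (Nat.two_pow_pos j)]
    exact hm
  rw [hbot, Subgroup.mem_bot] at hxm
  have h1 : orderOf x ∣ 2 ^ j := orderOf_dvd_of_pow_eq_one (Subtype.ext hxm)
  exact Nat.dvd_antisymm h1 (hjm ▸ dvd_mul_right _ _)

/-- No involution is isolated. -/
theorem Hyp.not_isolated (h : Hyp P) (z : G) : ¬ IsIsolatedInvolution z := by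
  haveI : Fact (Nat.Prime 2) := ⟨Nat.prime_two⟩
  intro hiso
  have hcen : ∀ g : G, g * z = z * g := fun g => by
    have h1 := ZStar.inZStar_of_isolatedInvolution hiso g
    rw [h.core, Subgroup.mem_bot, mul_inv_eq_one, mul_inv_eq_iff_eq_mul] at h1
    exact h1
  haveI : (⊤ : Subgroup G).Normal := inferInstance
  have htop := h.isPGroup_of_normal_centralizing (X := ⊤) hiso.1 fun x _ => hcen x
  exact h.nn (by rw [← P.is_maximal' htop le_top]; infer_instance)

/-- Every involution of `zc P` is moved by the normaliser of `P`. -/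
theorem Hyp.exists_moving (h : Hyp P) {z : G} (hz : z ∈ zc P) (hz1 : z ≠ 1) :
    ∃ n ∈ Subgroup.normalizer ((P : Subgroup G) : Set G), n * z * n⁻¹ ≠ z := by
  haveI : Fact (Nat.Prime 2) := ⟨Nat.prime_two⟩
  by_contra hcon
  push Not at hcon
  refine h.not_isolated z ⟨orderOf_zc hz hz1, fun g hg => ?_⟩
  set w := g * z * g⁻¹ with hw
  have hPC : (P : Subgroup G) ≤ Subgroup.centralizer ({z} : Set G) := fun s hs =>
    Subgroup.mem_centralizer_singleton_iff.2 (hz.2.2 s hs)
  have hw2 : orderOf w = 2 := by rw [hw, StronglyEmbedded.orderOf_conj, orderOf_zc hz hz1]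
  obtain ⟨c, hc, hcP⟩ := LocalCharP.exists_conj_mem_sylow P hPC (Subgroup.zpowers w)
    (Subgroup.zpowers_le.2 (Subgroup.mem_centralizer_singleton_iff.2 hg.eq.symm))
    (IsPGroup.of_card (n := 1) (by rw [Nat.card_zpowers, hw2, pow_one]))
  have h1 := hcP w (Subgroup.mem_zpowers w)
  obtain ⟨n, hn, hnz⟩ := h.fus z hz.1 _ h1 ⟨c * g, by rw [hw]; group⟩
  rw [hcon n hn] at hnz
  have hcz : c * z = z * c := Subgroup.mem_centralizer_singleton_iff.1 hc
  calc w = c⁻¹ * (c * w * c⁻¹) * c := by group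
    _ = c⁻¹ * (z * c) := by rw [← hnz, mul_assoc]
    _ = z := by rw [← hcz, inv_mul_cancel_left]

theorem zc_isPGroup : IsPGroup 2 (zc P) := P.isPGroup'.to_le zc_le

theorem Hyp.four_le_card_zc (h : Hyp P) : 4 ≤ Nat.card (zc P) := by
  classical
  haveI : Fact (Nat.Prime 2) := ⟨Nat.prime_two⟩
  obtain ⟨z, hz, hz1⟩ := h.exists_zc
  obtain ⟨n, hn, hnz⟩ := h.exists_moving hz hz1
  have hw := normalizer_conj_zc hn hz
  have hw1 : n * z * n⁻¹ ≠ 1 := fun e => hz1 (conj_eq_one_iff.1 e)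
  haveI := Fintype.ofFinite (zc P)
  have h3 : 3 ≤ Nat.card (zc P) := by
    rw [Nat.card_eq_fintype_card]
    exact Fintype.two_lt_card_iff.2 ⟨1, ⟨z, hz⟩, ⟨_, hw⟩,
      fun e => hz1 (congrArg Subtype.val e).symm, fun e => hw1 (congrArg Subtype.val e).symm,
      fun e => hnz (congrArg Subtype.val e).symm⟩
  obtain ⟨k, hk⟩ := IsPGroup.iff_card.1 (zc_isPGroup (P := P))
  rw [hk] at h3 ⊢
  rcases k with _ | _ | k
  · simp at h3
  · simp at h3
  · calc 4 = 2 ^ 2 := rfl
      _ ≤ 2 ^ (k + 1 + 1) := Nat.pow_le_pow_right two_pos (by omega)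

/-- No nontrivial normal subgroup centralises an involution. -/
theorem Hyp.normal_centralizing (h : Hyp P) {X : Subgroup G} [X.Normal] {z : G}
    (hz : z ∈ zc P) (hz1 : z ≠ 1) (hPX : (P : Subgroup G) ≤ X) :
    ∃ x ∈ X, x * z ≠ z * x := by
  haveI : Fact (Nat.Prime 2) := ⟨Nat.prime_two⟩
  by_contra hcon
  push Not at hcon
  have := h.isPGroup_of_normal_centralizing (X := X) (orderOf_zc hz hz1) hcon
  exact h.nn (P.is_maximal' this hPX ▸ inferInstance)

/-- No nontrivial normal subgroup lies in `zc P`. -/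
theorem Hyp.normal_le_zc (h : Hyp P) {X : Subgroup G} [X.Normal] (hX : X ≤ zc P) : X = ⊥ := by
  by_contra hne
  obtain ⟨z, hz, hz1⟩ := (Subgroup.bot_or_exists_ne_one X).resolve_left hne
  obtain ⟨x, hx, hxz⟩ := h.normal_centralizing (X := Subgroup.centralizer (X : Set G)) (hX hz) hz1
    fun s hs => Subgroup.mem_centralizer_iff.2 fun w hw => ((hX hw).2.2 s hs).symm
  exact hxz (Subgroup.mem_centralizer_iff.1 hx z hz).symm

/-- The hypotheses in a simple group. -/
theorem Hyp.of_simple [IsSimpleGroup G] (hnc : ¬ IsMulCommutative G) (hdvd : 2 ∣ Nat.card G)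
    (P : Sylow 2 G)
    (fus : ∀ x ∈ (P : Subgroup G), ∀ y ∈ (P : Subgroup G), (∃ g : G, g * x * g⁻¹ = y) →
      ∃ n ∈ Subgroup.normalizer ((P : Subgroup G) : Set G), n * x * n⁻¹ = y)
    (cent : ∀ x ∈ (P : Subgroup G), orderOf x = 2 →
      HasNormalPComplement 2 ↥(Subgroup.centralizer ({x} : Set G)))
    (notAll : ¬ (IsElementaryAbelian 2 (P : Subgroup G) ∧
      ∀ x ∈ (P : Subgroup G), ∀ y ∈ (P : Subgroup G), x ≠ 1 → y ≠ 1 → ∃ g : G, g * x * g⁻¹ = y)) :
    Hyp P := by
  haveI : Fact (Nat.Prime 2) := ⟨Nat.prime_two⟩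
  refine ⟨?_, fun hn => ?_, fus, cent, notAll⟩
  · exact ((inferInstance : (pPrimeCore 2 G).Normal).eq_bot_or_eq_top).resolve_right fun e =>
      Constrained.pPrimeCore_not_dvd (p := 2) (G := G) (by rw [e, Subgroup.card_top]; exact hdvd)
  · rcases hn.eq_bot_or_eq_top with e | e
    · exact P.ne_bot_of_dvd_card hdvd e
    · haveI : Nontrivial G := IsSimpleGroup.toNontrivial
      haveI := (show IsPGroup 2 G from (e ▸ P.isPGroup' : IsPGroup 2 (⊤ : Subgroup G)).of_equiv
        Subgroup.topEquiv).center_nontrivial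
      rcases (inferInstance : (Subgroup.center G).Normal).eq_bot_or_eq_top with h1 | h1
      · exact (Subgroup.nontrivial_iff_ne_bot _).1 inferInstance h1
      · exact hnc ⟨⟨fun a b => (Subgroup.mem_center_iff.1 (h1 ▸ Subgroup.mem_top b :
          b ∈ Subgroup.center G) a)⟩⟩

end CfsgLib.LocalFusion83
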