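import Cfsg.Agent.LocalFusion83.Basic
import Cfsg.Agent.SL2.Sylow
import Cfsg.Agent.SL2.PSL
import Cfsg.Agent.S1141

/-!
The groups of Bender's list other than the Suzuki groups do not satisfy the hypotheses.
-/

set_option autoImplicit false
set_option linter.style.haveILetI false
set_option linter.unusedSectionVars false

universe u

namespace CfsgLib.LocalFusion83

open Cfsg
open CfsgLib.Unitary (preserves_iff_orthonorm_cols mem_SU)

variable {G : Type u} [Group G] [Finite G] {P : Sylow 2 G}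

/-- A surjection sending a given Sylow subgroup onto a given one. -/
theorem exists_surjective_map_eq {X : Type*} [Group X] [Finite X] (π : X →* G)
    (hπ : Function.Surjective π) (S : Sylow 2 X) (P : Sylow 2 G) :
    ∃ π' : X →* G, Function.Surjective π' ∧ π'.ker = π.ker ∧
      (S : Subgroup X).map π' = (P : Subgroup G) := by
  haveI : Fact (Nat.Prime 2) := ⟨Nat.prime_two⟩
  obtain ⟨c, hc⟩ := MulAction.exists_smul_eq G (S.mapSurjective hπ) P
  refine ⟨(MulAut.conj c).toMonoidHom.comp π, (MulAut.conj c).surjective.comp hπ,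
    MonoidHom.ker_mulEquiv_comp π (MulAut.conj c), ?_⟩
  rw [← Subgroup.map_map, ← hc, Sylow.coe_subgroup_smul]
  rfl

theorem charP_two_of_card {F : Type*} [Field F] [Fintype F] {n : ℕ} (hF : Fintype.card F = 2 ^ n) :
    CharP F 2 := by
  obtain ⟨p, hchar⟩ := CharP.exists F
  obtain ⟨k, hp, hk⟩ := FiniteField.card F p
  have hd : p ∣ 2 ^ n := by rw [← hF, hk]; exact dvd_pow_self p k.pos.ne'
  obtain rfl : p = 2 := (Nat.prime_dvd_prime_iff_eq hp Nat.prime_two).1 (hp.dvd_of_dvd_pow hd)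
  exact hchar

/-- `G` is not a `PSL(2, 2 ^ n)`. -/
theorem Hyp.not_psl_two (h : Hyp P) {F : Type*} [Field F] [Fintype F] {n : ℕ}
    (hF : Fintype.card F = 2 ^ n) (e : G ≃* Matrix.ProjectiveSpecialLinearGroup (Fin 2) F) :
    False := by
  classical
  haveI : Fact (Nat.Prime 2) := ⟨Nat.prime_two⟩
  haveI := charP_two_of_card hF
  let π₀ : Matrix.SpecialLinearGroup (Fin 2) F →* G :=
    e.symm.toMonoidHom.comp (QuotientGroup.mk' _)
  obtain ⟨π, -, -, hP⟩ := exists_surjective_map_eq π₀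
    (e.symm.surjective.comp (QuotientGroup.mk'_surjective _)) (SL2.uSylow 2) P
  rw [SL2.coe_uSylow] at hP
  have hmem : ∀ x ∈ (P : Subgroup G), ∃ t, x = π (SL2.u t) := by
    intro x hx
    rw [← hP] at hx
    obtain ⟨y, hy, rfl⟩ := hx
    obtain ⟨t, rfl⟩ := SL2.mem_U.1 hy
    exact ⟨t, rfl⟩
  refine h.notAll ⟨⟨⟨⟨fun a b => Subtype.ext ?_⟩⟩, fun a ha => ?_⟩, fun x hx y hy hx1 hy1 => ?_⟩
  · obtain ⟨s, hs⟩ := hmem a a.2
    obtain ⟨t, ht⟩ := hmem b b.2
    rw [Subgroup.coe_mul, Subgroup.coe_mul, hs, ht, ← map_mul, ← map_mul, ← SL2.u_add,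
      ← SL2.u_add, add_comm]
  · obtain ⟨s, rfl⟩ := hmem a ha
    rw [← map_pow, SL2.u_pow]
    simp [CharTwo.two_eq_zero]
  · obtain ⟨s, rfl⟩ := hmem x hx
    obtain ⟨t, rfl⟩ := hmem y hy
    have hs : s ≠ 0 := fun e => hx1 (by rw [e, SL2.u_zero, map_one])
    have ht : t ≠ 0 := fun e => hy1 (by rw [e, SL2.u_zero, map_one])
    obtain ⟨a, ha⟩ := (FiniteField.isSquare_of_char_two (F := F) (by
      exact ringChar.eq F 2) (t / s)).exists_sq
    have ha0 : a ≠ 0 := fun e => div_ne_zero ht hs (by rw [ha, e]; ring)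
    refine ⟨π (SL2.d (Units.mk0 a ha0)), ?_⟩
    rw [← map_inv, ← map_mul, ← map_mul, SL2.d_conj_u, Units.val_mk0, ← ha, div_mul_cancel₀ _ hs]

section Unitary

open CfsgLib.UnitaryThree

variable {F : Type*} [Field F] [Fintype F] {q : ℕ}

/-- The matrix `diag(l, l, m)`. -/
def diagMat (l m : F) : Matrix (Fin 3) (Fin 3) F := !![l, 0, 0; 0, l, 0; 0, 0, m]

theorem diagMat_mul (l m l' m' : F) : diagMat l m * diagMat l' m' = diagMat (l * l') (m * m') := by
  ext i j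
  fin_cases i <;> fin_cases j <;> simp [diagMat, Matrix.mul_apply, Fin.sum_univ_three]

theorem diagMat_one : diagMat (1 : F) 1 = 1 := by
  ext i j
  fin_cases i <;> fin_cases j <;> simp [diagMat]

theorem diagMat_mul_uniMat (_d : Data F q) (l : F) (a b : F) (hl : l ^ (q + 1) = 1) :
    diagMat l (l⁻¹ ^ 2) * uniMat q a b =
      uniMat q (l⁻¹ ^ 3 * a) b * diagMat l (l⁻¹ ^ 2) := by
  have hl0 : l ≠ 0 := fun e => by rw [e, zero_pow (Nat.succ_ne_zero q)] at hl; exact zero_ne_one hl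
  have hlq : l⁻¹ ^ q = l := by
    rw [inv_pow]
    exact inv_eq_of_mul_eq_one_right ((pow_succ l q).symm.trans hl)
  have h3 : (l⁻¹ ^ 3 * a) ^ q = l ^ 3 * a ^ q := by
    rw [mul_pow, ← pow_mul, mul_comm 3, pow_mul, hlq]
  have h4 : (a / l ^ 3) ^ q = l ^ 3 * a ^ q := by
    rw [← h3]; congr 1; rw [inv_pow, div_eq_mul_inv, mul_comm]
  ext i j
  fin_cases i <;> fin_cases j <;>
    simp [diagMat, uniMat, Matrix.mul_apply, Fin.sum_univ_three] <;>
    field_simp <;> simp [h4]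

/-- `G` is not a `PSU(3, 2 ^ n)`, `n ≥ 2`. -/
theorem Hyp.not_psu_three (h : Hyp P) {n : ℕ} (hn : 2 ≤ n) (hF : Fintype.card F = (2 ^ n) ^ 2)
    (e : G ≃* Cfsg.PSU 3 F (2 ^ n)) : False := by
  classical
  haveI : Fact (Nat.Prime 2) := ⟨Nat.prime_two⟩
  set q := 2 ^ n with hq
  have hq4 : 4 ≤ q := by
    calc 4 = 2 ^ 2 := rfl
      _ ≤ 2 ^ n := Nat.pow_le_pow_right two_pos hn
  have d : Data F (2 ^ n) :=
    Data.ofCard (n := n) (by omega) (by rw [hF, ← pow_mul, mul_comm, pow_mul]; norm_num)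
  obtain ⟨Q, hQ⟩ := exists_sylow_eq_uni n (by omega) d
  let π₀ : ↥(Cfsg.SU 3 F (2 ^ n)) →* G := e.symm.toMonoidHom.comp (QuotientGroup.mk' _)
  obtain ⟨π, -, hker, hP⟩ := exists_surjective_map_eq π₀
    (e.symm.surjective.comp (QuotientGroup.mk'_surjective _)) Q P
  rw [hQ] at hP
  have hinj : ∀ x ∈ uni d, π x = 1 → x = 1 := by
    intro x hx hx1
    have hc : x ∈ Subgroup.center ↥(Cfsg.SU 3 F (2 ^ n)) := by
      have hk : x ∈ π₀.ker := hker ▸ (MonoidHom.mem_ker.2 hx1)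
      rw [MonoidHom.mem_ker] at hk
      exact (QuotientGroup.eq_one_iff x).1 (e.symm.injective (hk.trans (map_one e.symm).symm))
    have h1 : orderOf x ∣ (2 ^ n) ^ 3 := by
      rw [← card_uni d]; exact Subgroup.orderOf_dvd_natCard _ hx
    have h2 : orderOf x ∣ 2 ^ n + 1 := (Subgroup.orderOf_dvd_natCard _ hc).trans (by
      rw [CfsgLib.Unitary.card_center_SU d.card (by omega)]; exact Nat.gcd_dvd_right _ _)
    exact orderOf_eq_one_iff.mp (Nat.eq_one_of_dvd_coprimes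
      ((Nat.coprime_self_add_right.mpr (Nat.coprime_one_right _)).pow_left 3) h1 h2)
  -- a root of unity of order dividing `q + 1` and not three
  obtain ⟨l, hl, hl3⟩ : ∃ l : F, l ^ (q + 1) = 1 ∧ l ^ 3 ≠ 1 := by
    obtain ⟨s, hs⟩ := IsCyclic.exists_generator (α := Fˣ)
    have hos : orderOf s = q ^ 2 - 1 := by
      rw [orderOf_eq_card_of_forall_mem_zpowers hs, Nat.card_units, Nat.card_eq_fintype_card, hF]
    have hfac : q ^ 2 - 1 = (q - 1) * (q + 1) := by
      rw [mul_comm]; simpa using Nat.sq_sub_sq q 1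
    refine ⟨((s ^ (q - 1) : Fˣ) : F), ?_, fun e3 => ?_⟩
    · rw [← Units.val_pow_eq_pow_val, ← pow_mul, ← hfac, ← hos, pow_orderOf_eq_one, Units.val_one]
    · rw [← Units.val_pow_eq_pow_val, Units.val_eq_one, ← pow_mul] at e3
      have hdvd := orderOf_dvd_of_pow_eq_one e3
      rw [hos, hfac] at hdvd
      have := Nat.le_of_dvd (by norm_num) ((Nat.mul_dvd_mul_iff_left (by omega)).1 hdvd)
      omega
  have hl0 : l ≠ 0 := fun e => by rw [e, zero_pow (Nat.succ_ne_zero q)] at hl; exact zero_ne_one hl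
  have hm2 : (l ^ 2) ^ (q + 1) = 1 := by rw [← pow_mul, mul_comm, pow_mul, hl, one_pow]
  have hm : (l⁻¹ ^ 2) ^ (q + 1) = 1 := by rw [← pow_mul, mul_comm, pow_mul, inv_pow, hl, inv_one, one_pow]
  have horth : CfsgLib.Unitary.Orthonorm q (CfsgLib.Unitary.cols (diagMat l (l⁻¹ ^ 2))) := by
    intro i j
    have hz : (0 : F) ^ q = 0 := zero_pow (by omega)
    fin_cases i <;> fin_cases j <;>
      simp [CfsgLib.Unitary.cols, diagMat, hermForm, Fin.sum_univ_three, hz, ← pow_succ', hl, hm2]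
  have hdet : (diagMat l (l⁻¹ ^ 2)).det = 1 := by
    rw [Matrix.det_fin_three]
    simp [diagMat]
    field_simp
  let g : ↥(Cfsg.SU 3 F (2 ^ n)) :=
    ⟨⟨diagMat l (l⁻¹ ^ 2), hdet⟩, mem_SU.2 ((preserves_iff_orthonorm_cols d.card _).2 horth)⟩
  have hg : mat g = diagMat l (l⁻¹ ^ 2) := rfl
  have hpow : ∀ k : ℕ, mat (g ^ k) = diagMat (l ^ k) ((l⁻¹ ^ 2) ^ k) := by
    intro k
    induction k with
    | zero => rw [pow_zero, mat_one, pow_zero, pow_zero, diagMat_one]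
    | succ k ih => rw [pow_succ g, mat_mul, ih, hg, diagMat_mul, pow_succ l, pow_succ (l⁻¹ ^ 2)]
  have hgq : g ^ (q + 1) = 1 := mat_ext (by rw [hpow, hl, hm, diagMat_one, mat_one])
  have hnorm : ∀ x : uni d, ∃ y : uni d, g * (x : ↥(Cfsg.SU 3 F (2 ^ n))) * g⁻¹ = y ∧
      coA y = l⁻¹ ^ 3 * coA x ∧ coB y = coB x := by
    intro x
    have hc : Cond (2 ^ n) (l⁻¹ ^ 3 * coA x) (coB x) := by
      have := cond_coords x
      rw [Cond] at this ⊢
      rw [mul_pow, ← pow_mul, mul_comm 3, pow_mul, inv_pow, hl, inv_one, one_pow, one_mul, this]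
    refine ⟨el d _ _ hc, ?_, rfl, rfl⟩
    rw [mul_inv_eq_iff_eq_mul]
    refine mat_ext ?_
    rw [mat_mul, mat_mul, hg, mat_eq x, mat_eq (el d _ _ hc)]
    exact diagMat_mul_uniMat d l _ _ hl
  set z := el d 0 1 (cond_zero (one_pow _) d) with hz
  obtain ⟨x, hx⟩ := exists_coA d (1 : F)
  have hzc : π (z : ↥(Cfsg.SU 3 F (2 ^ n))) ∈ zc P := by
    refine ⟨hP ▸ ⟨_, z.2, rfl⟩, ?_, fun s hs => ?_⟩
    · rw [← map_mul, ← Subgroup.coe_mul, show z * z = 1 from uni_ext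
        (by rw [(sq_eq _).1, coA_one]) (by rw [(sq_eq _).2, hz, coA_el, zero_pow (by omega), coB_one]),
        Subgroup.coe_one, map_one]
    · rw [← hP] at hs
      obtain ⟨y, hy, rfl⟩ := hs
      rw [← map_mul, ← map_mul]
      congr 1
      exact congrArg Subtype.val (Subgroup.mem_center_iff.1 ((mem_center_iff z).2 rfl) ⟨y, hy⟩)
  have hz1 : π (z : ↥(Cfsg.SU 3 F (2 ^ n))) ≠ 1 := fun e1 =>
    one_ne_zero (α := F) (by
      have h1 : z = 1 := Subtype.ext (hinj _ z.2 e1)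
      have := congrArg coB h1
      rwa [coB_one, hz, coB_el] at this)
  have hgz : g * (z : ↥(Cfsg.SU 3 F (2 ^ n))) * g⁻¹ = z := by
    obtain ⟨y, hy, hyA, hyB⟩ := hnorm z
    rw [hy, uni_ext (g := y) (h := z) (by rw [hyA, hz, coA_el, mul_zero]) hyB]
  have hodd : Odd (orderOf (π g)) :=
    Odd.of_dvd_nat (Even.add_one (Nat.even_pow.2 ⟨even_two, by omega⟩) : Odd (2 ^ n + 1))
      ((orderOf_map_dvd π g).trans (orderOf_dvd_of_pow_eq_one hgq))
  have hcomm := h.commute_of_odd_normalizing (orderOf_zc hzc hz1) P.isPGroup'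
    (fun s hs => commute_zc hzc hs) (n := π g)
    (by
      rw [← map_mul, ← map_mul]
      exact congrArg π (mul_inv_eq_iff_eq_mul.1 hgz)) hodd
    (fun s hs => by
      rw [← hP] at hs ⊢
      obtain ⟨s', hs', rfl⟩ := hs
      obtain ⟨y, hy, -, -⟩ := hnorm ⟨s', hs'⟩
      exact ⟨y, y.2, by rw [← map_inv, ← map_mul, ← map_mul, hy]⟩)
    (q := π (x : ↥(Cfsg.SU 3 F (2 ^ n)))) (hP ▸ ⟨_, x.2, rfl⟩)
  obtain ⟨y, hy, hyA, -⟩ := hnorm x
  have heq : y = x := by
    refine mul_inv_eq_one.1 (Subtype.ext (hinj _ (y * x⁻¹).2 ?_))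
    rw [Subgroup.coe_mul, ← hy, map_mul, map_mul, map_mul, hcomm, Subgroup.coe_inv, map_inv, map_inv]
    group
  rw [heq, hx, mul_one, inv_pow, eq_comm, inv_eq_one] at hyA
  exact hl3 hyA

end Unitary

end CfsgLib.LocalFusion83
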