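import Cfsg.Agent.LocalFusion83.Basic
import Cfsg.Agent.SolvSignalizer.TwoPrime.Odd
import Cfsg.Agent.Criterion.Final
import Cfsg.Agent.Criterion.SimpleCase
import Cfsg.Agent.Eq.Def_CaseTheorems

/-!
With an elementary abelian subgroup of order eight containing `zc P` a simple group has a strongly
embedded subgroup.
-/

set_option autoImplicit false
set_option linter.style.haveILetI false
set_option linter.unusedSectionVars false

universe u

namespace CfsgLib.LocalFusion83

open Cfsg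
open CfsgLib.SolvSignalizer (uCoreOf uCoreOf_le le_normalizer_uCoreOf not_dvd_uCoreOf)
open CfsgLib.StronglyEmbedded (orderOf_two_iff)

variable {G : Type u} [Group G] [Finite G] {P : Sylow 2 G}

/-- Outside rank two there is an elementary abelian subgroup of order at least eight containing
`zc P`. -/
theorem Hyp.exists_elementary (h : Hyp P) (hr : ¬ PRankLE 2 2 G) :
    ∃ A : Subgroup G, IsElementaryAbelian 2 A ∧ 2 ^ 3 ≤ Nat.card A ∧ zc P ≤ A := by
  haveI : Fact (Nat.Prime 2) := ⟨Nat.prime_two⟩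
  simp only [PRankLE] at hr
  push Not at hr
  obtain ⟨A₀, hA₀c, hA₀2, hA₀⟩ := hr
  have hA₀p : IsPGroup 2 A₀ := fun a => ⟨1, Subtype.ext (by simpa using hA₀2 a a.2)⟩
  obtain ⟨g, -, hg⟩ := LocalCharP.exists_conj_mem_sylow P le_top A₀ le_top hA₀p
  set A₁ := A₀.map (MulAut.conj g).toMonoidHom with hA₁
  have hA₁P : A₁ ≤ (P : Subgroup G) := by
    rintro _ ⟨a, ha, rfl⟩
    exact hg a ha
  have hc1 : ∀ x ∈ A₁, ∀ y ∈ A₁, x * y = y * x := by
    rintro _ ⟨a, ha, rfl⟩ _ ⟨b, hb, rfl⟩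
    rw [← map_mul, ← map_mul, show a * b = b * a from
      congrArg Subtype.val (hA₀c.is_comm.comm ⟨a, ha⟩ ⟨b, hb⟩)]
  have hs1 : ∀ x ∈ A₁, x * x = 1 := by
    rintro _ ⟨a, ha, rfl⟩
    rw [← map_mul, ← sq, hA₀2 a ha, map_one]
  have hcomm : ∀ x ∈ (A₁ : Set G) ∪ zc P, ∀ y ∈ (A₁ : Set G) ∪ zc P, x * y = y * x := by
    rintro x (hx | hx) y (hy | hy)
    · exact hc1 x hx y hy
    · exact commute_zc hy (hA₁P hx)
    · exact (commute_zc hx (hA₁P hy)).symm
    · exact commute_zc hy hx.1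
  set A := Subgroup.closure ((A₁ : Set G) ∪ zc P) with hA
  have hAc : IsMulCommutative A := Subgroup.isMulCommutative_closure hcomm
  refine ⟨A, ⟨hAc, fun a ha => ?_⟩, ?_, fun x hx => Subgroup.subset_closure (Or.inr hx)⟩
  · rw [sq]
    induction ha using Subgroup.closure_induction with
    | mem x hx => exact hx.elim (hs1 x) fun hx => hx.2.1
    | one => exact one_mul 1
    | mul x y hx hy ihx ihy =>
      rw [Commute.mul_mul_mul_comm (show Commute y x from
        congrArg Subtype.val (hAc.is_comm.comm (⟨y, hy⟩ : A) ⟨x, hx⟩)), ihx, ihy, one_mul]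
    | inv x hx ihx => rw [← mul_inv_rev, ihx, inv_one]
  · have h1 : A₁ ≤ A := fun x hx => Subgroup.subset_closure (Or.inl hx)
    refine le_trans ?_ (Subgroup.card_le_of_le h1)
    rw [hA₁, Subgroup.card_map_of_injective (MulAut.conj g).injective]
    obtain ⟨k, hk⟩ := IsPGroup.iff_card.1 hA₀p
    rw [hk] at hA₀ ⊢
    exact Nat.pow_le_pow_right two_pos ((Nat.pow_lt_pow_iff_right one_lt_two).1 hA₀)

/-- In a simple group an elementary abelian subgroup of order eight containing `zc P` gives a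
strongly embedded subgroup. -/
theorem Hyp.exists_stronglyEmbedded [IsSimpleGroup G] (h : Hyp P) {A : Subgroup G}
    (hA : IsElementaryAbelian 2 A) (hA8 : 2 ^ 3 ≤ Nat.card A) (hZA : zc P ≤ A) :
    ∃ H : Subgroup G, IsStronglyEmbedded H := by
  haveI : Fact (Nat.Prime 2) := ⟨Nat.prime_two⟩
  have hAc : ∀ a ∈ A, ∀ b ∈ A, a * b = b * a := fun a ha b hb =>
    congrArg Subtype.val (hA.1.is_comm.comm (⟨a, ha⟩ : A) ⟨b, hb⟩)
  have hAo : ∀ a ∈ A, a ≠ 1 → orderOf a = 2 := fun a ha ha1 =>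
    orderOf_two_iff.2 ⟨by rw [← sq]; exact hA.2 a ha, ha1⟩
  have hθ : IsSolvableSignalizerFunctor 2 A theta :=
    ⟨⟨fun a _ _ => uCoreOf_le 2 _, fun a _ _ => not_dvd_uCoreOf 2 _,
      fun a ha _ b hb x hx => conj_mem_theta (hAc b hb a ha) hx,
      fun a _ _ b hb hb1 => h.balance a (hAo b hb hb1)⟩, fun a _ _ => theta_solvable a⟩
  obtain ⟨K, -, hKodd, -, hKC, -⟩ := SolvSignalizer.exists_solvable_closure_two hA hA8 hθ
  set W := ⨆ t : {t : G // t ∈ zc P ∧ t ≠ 1}, theta (t : G) with hW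
  have hWK : W ≤ K := iSup_le fun t => (hKC t (hZA t.2.1) t.2.2).ge.trans inf_le_left
  have hPW : (P : Subgroup G) ≤ Subgroup.normalizer (W : Set G) := by
    have hle : ∀ s ∈ (P : Subgroup G), W ≤ W.comap (MulAut.conj s).toMonoidHom := fun s hs =>
      iSup_le fun t x hx =>
        le_iSup (fun t : {t : G // t ∈ zc P ∧ t ≠ 1} => theta (t : G)) t
          (conj_mem_theta (commute_zc t.2.1 hs) hx)
    intro s hs
    refine Subgroup.mem_normalizer_iff.2 fun x => ⟨fun hx => hle s hs hx, fun hx => ?_⟩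
    have := hle s⁻¹ (inv_mem hs) hx
    simpa [mul_assoc] using this
  have hprop : (⨆ t : {t : G // t ∈ zc P ∧ orderOf t = 2},
      Subgroup.centralizer ({(t : G)} : Set G)) ≠ ⊤ := by
    intro htop
    have hsup : W ⊔ (P : Subgroup G) = ⊤ := by
      rw [eq_top_iff, ← htop]
      refine iSup_le fun t c hc => ?_
      have ht1 := (orderOf_two_iff.1 t.2.2).2
      obtain ⟨n, hn, s, hs, rfl⟩ :=
        h.exists_decomp t.2.1 ht1 (Subgroup.mem_centralizer_singleton_iff.1 hc)
      exact Subgroup.mul_mem_sup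
        (le_iSup (fun t : {t : G // t ∈ zc P ∧ t ≠ 1} => theta (t : G)) ⟨t, t.2.1, ht1⟩ hn) hs
    haveI : W.Normal := Subgroup.normalizer_eq_top_iff.1 (by
      rw [eq_top_iff, ← hsup]; exact sup_le Subgroup.le_normalizer hPW)
    have hdvd : 2 ∣ Nat.card G := by
      obtain ⟨z, hz, hz1⟩ := h.exists_zc
      rw [← orderOf_zc hz hz1]
      exact orderOf_dvd_natCard z
    rcases (inferInstance : W.Normal).eq_bot_or_eq_top with hb | ht
    · rw [hb, bot_sup_eq] at hsup
      exact h.nn (hsup ▸ inferInstance)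
    · exact hKodd (hdvd.trans (by
        rw [← Subgroup.card_top (G := G), ← ht]
        exact Subgroup.card_dvd_of_le hWK))
  exact Criterion.exists_stronglyEmbedded_of_stronglyClosed Criterion.pieces P (zc P)
    (fun e => by
      obtain ⟨z, hz, hz1⟩ := h.exists_zc
      exact hz1 (Subgroup.mem_bot.1 (e ▸ hz)))
    ⟨zc_le, fun x hx g hg => h.zc_closed hx hg⟩ hprop

end CfsgLib.LocalFusion83
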