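import Cfsg.Agent.LocalFusion83.Basic
import Cfsg.Agent.TwoRankTwo23.Transitive
import Cfsg.Agent.TwoRankTwo23.Four
import Cfsg.Agent.TwoFpf.Classify
import Cfsg.Agent.Eq.Def_CaseTheorems
import Cfsg.Agent.S0949

/-!
In rank two the Sylow 2-subgroup has order 64, is of unitary type, and an element of odd order of
its normaliser acts on it without fixed points.
-/

set_option autoImplicit false
set_option linter.style.haveILetI false
set_option linter.unusedSectionVars false

universe u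

namespace CfsgLib.LocalFusion83

open Cfsg
open CfsgLib.OmegaFour (mem_normalizer_conj restrictAut restrictAut_coe)
open CfsgLib.StronglyEmbedded (orderOf_two_iff)

variable {G : Type u} [Group G] [Finite G] {P : Sylow 2 G}

/-- The unitary configuration. -/
structure Unitary (P : Sylow 2 G) (n : G) : Prop where
  hyp : Hyp P
  card : Nat.card (P : Subgroup G) = 64
  norm : n ∈ Subgroup.normalizer ((P : Subgroup G) : Set G)
  odd : Odd (orderOf n)
  cube : ∀ x ∈ (P : Subgroup G), n ^ 3 * x = x * n ^ 3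
  fpf : ∀ x ∈ (P : Subgroup G), n * x = x * n → x = 1
  sq : ∀ x ∈ (P : Subgroup G), x * x ∈ zc P
  invol : ∀ x ∈ (P : Subgroup G), x * x = 1 → x ∈ zc P
  card_zc : Nat.card (zc P) = 4

theorem Hyp.card_zc (h : Hyp P) (hr : PRankLE 2 2 G) : Nat.card (zc P) = 4 := by
  refine le_antisymm ?_ h.four_le_card_zc
  have := hr (zc P) ⟨⟨fun a b => Subtype.ext (commute_zc b.2 a.2.1)⟩⟩
    fun a ha => by rw [sq]; exact ha.2.1
  simpa using this

theorem Hyp.invol_mem (h : Hyp P) (hr : PRankLE 2 2 G) {x : G} (hx : x ∈ (P : Subgroup G))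
    (hx2 : x * x = 1) : x ∈ zc P :=
  TwoRankTwo23.mem_of_commute hr (h.card_zc hr) (fun _ ha => ha.2.1) hx2
    fun _ ha => commute_zc ha hx

/-- In a group generated by `k` a multiple of a third root fixing a point makes `k` fix it. -/
theorem commute_of_pow_three {k a : G} {m : ℕ} (hm : ¬ 3 ∣ m) (h3 : Commute (k ^ 3) a)
    (hk : Commute (k ^ m) a) : Commute k a := by
  have hco : Nat.gcd 3 m = 1 := (Nat.prime_three.coprime_iff_not_dvd.2 hm)
  have hb := Int.gcd_eq_gcd_ab (3 : ℤ) (m : ℤ)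
  rw [show Int.gcd (3 : ℤ) (m : ℤ) = 1 from hco, Nat.cast_one] at hb
  rw [show k = k ^ (1 : ℤ) from (zpow_one k).symm, hb, zpow_add, zpow_mul, zpow_mul,
    zpow_ofNat, zpow_natCast]
  exact (h3.zpow_left _).mul_left (hk.zpow_left _)

theorem mem_normalizer_of_forall_conj {H : Subgroup G} {g : G}
    (h : ∀ a ∈ H, g * a * g⁻¹ ∈ H) : g ∈ Subgroup.normalizer (H : Set G) := by
  rw [Subgroup.mem_normalizer_iff_map_conj_eq]
  refine Subgroup.eq_of_le_of_card_ge ?_ (Subgroup.card_map_of_injective (MulAut.conj g).injective).ge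
  rintro _ ⟨a, ha, rfl⟩
  exact h a ha

/-- An element of odd order of the normaliser acting on `zc P` without fixed points. -/
theorem Hyp.exists_fpf (h : Hyp P) (hr : PRankLE 2 2 G) :
    ∃ n ∈ Subgroup.normalizer ((P : Subgroup G) : Set G), Odd (orderOf n) ∧
      (∀ x ∈ (P : Subgroup G), n ^ 3 * x = x * n ^ 3) ∧
      ∀ x ∈ (P : Subgroup G), n * x = x * n → x = 1 := by
  haveI : Fact (Nat.Prime 2) := ⟨Nat.prime_two⟩
  have hU4 := h.card_zc hr
  have hU2 : ∀ a ∈ zc P, a * a = 1 := fun a ha => ha.2.1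
  have hNU : Subgroup.normalizer ((P : Subgroup G) : Set G) ≤
      Subgroup.normalizer (zc P : Set G) := fun x hx =>
    mem_normalizer_of_forall_conj fun _ ha => normalizer_conj_zc hx ha
  obtain ⟨k, hk, hall⟩ := TwoRankTwo23.exists_moving_all hU4 hU2 _ hNU fun a ha ha1 =>
    h.exists_moving ha ha1
  have hk3 : ∀ a ∈ zc P, Commute (k ^ 3) a := fun a ha => by
    refine mul_inv_eq_iff_eq_mul.1 ?_
    refine Eq.trans ?_ (TwoRankTwo23.three_cycle hU4 hU2 (hNU hk) hall ha).2
    simp only [pow_succ, pow_zero, one_mul]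
    group
  obtain ⟨j, m, hm, hjm⟩ := Nat.exists_eq_two_pow_mul_odd (orderOf_pos k).ne'
  set n := k ^ 2 ^ j with hn
  have hnN : n ∈ Subgroup.normalizer ((P : Subgroup G) : Set G) := pow_mem hk _
  have hodd : Odd (orderOf n) := by
    rw [hn, orderOf_pow, hjm, Nat.gcd_mul_right_left, Nat.mul_div_cancel_left _ (Nat.two_pow_pos j)]
    exact hm
  have hnz : ∀ a ∈ zc P, n * a = a * n → a = 1 := fun a ha e => by
    refine hall a ha (mul_inv_eq_iff_eq_mul.2 (commute_of_pow_three ?_ (hk3 a ha) e).eq)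
    exact fun hd => absurd (Nat.prime_three.dvd_of_dvd_pow hd) (by norm_num)
  refine ⟨n, hnN, hodd, fun x hx => ?_, fun x hx e => ?_⟩
  · obtain ⟨z, hz, hz1⟩ := h.exists_zc
    refine h.commute_of_odd_normalizing (orderOf_zc hz hz1) P.isPGroup'
      (fun s hs => commute_zc hz hs) ?_ (hodd.of_dvd_nat (orderOf_pow_dvd _))
      (fun q hq => mem_normalizer_conj (pow_mem hnN 3) hq) hx
    rw [hn, ← pow_mul, mul_comm, pow_mul]
    exact ((hk3 z hz).pow_left _).eq
  · by_contra hx1
    obtain ⟨i, hi⟩ := IsPGroup.iff_orderOf.1 P.isPGroup' ⟨x, hx⟩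
    rw [Subgroup.orderOf_mk] at hi
    obtain ⟨i, rfl⟩ : ∃ i', i = i' + 1 := Nat.exists_eq_succ_of_ne_zero fun e0 => hx1 (by
      rwa [e0, pow_zero, orderOf_eq_one_iff] at hi)
    have hy : orderOf (x ^ 2 ^ i) = 2 := by
      rw [orderOf_pow_of_dvd (by positivity) (hi ▸ pow_dvd_pow 2 (Nat.le_succ i)), hi, pow_succ,
        Nat.mul_div_cancel_left _ (Nat.two_pow_pos i)]
    exact (orderOf_two_iff.1 hy).2 (hnz _ (h.invol_mem hr (pow_mem hx _) (orderOf_two_iff.1 hy).1)
      ((show Commute n x from e).pow_right _).eq)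

/-- In rank two only the unitary configuration remains. -/
theorem Hyp.exists_unitary (h : Hyp P) (hr : PRankLE 2 2 G) : ∃ n, Unitary P n := by
  haveI : Fact (Nat.Prime 2) := ⟨Nat.prime_two⟩
  obtain ⟨n, hnN, hodd, hcube, hfpf⟩ := h.exists_fpf hr
  set T := (P : Subgroup G) with hT
  let θ : MulAut T := restrictAut T (MulAut.conj n) fun a ha => by
    simpa using mem_normalizer_conj hnN ha
  have hθ : ∀ a : T, ((θ a : T) : G) = n * a * n⁻¹ := fun a => rfl
  have hf : TwoFpf.IsFpfThree θ := by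
    refine ⟨fun a => Subtype.ext ?_, fun a e => Subtype.ext ?_⟩
    · refine Eq.trans ?_ (mul_inv_eq_iff_eq_mul.2 (hcube a a.2))
      rw [hθ, hθ, hθ]
      simp only [pow_succ, pow_zero, one_mul]
      group
    · exact hfpf a a.2 (mul_inv_eq_iff_eq_mul.1 ((hθ a).symm.trans (congrArg Subtype.val e)))
  set W := (zc P).subgroupOf T with hW
  have hW4 : TwoFpf.IsFour θ W :=
    ⟨fun a ha => Subgroup.mem_center_iff.2 fun b => Subtype.ext (commute_zc ha b.2),
      by rw [hW, Nat.card_congr (Subgroup.subgroupOfEquivOfLe zc_le).toEquiv, h.card_zc hr],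
      fun a ha => Subtype.ext ha.2.1, fun a ha => normalizer_conj_zc hnN ha⟩
  rcases TwoFpf.classify P.isPGroup' hf hW4
    (fun a ha => h.invol_mem hr a.2 (congrArg Subtype.val ha)) with hh | hh
  · exfalso
    obtain ⟨m, hm, ⟨e⟩⟩ := hh.exists_mulEquiv
    rcases (show m = 1 ∨ 2 ≤ m by omega) with rfl | hm2
    · have hcard : Nat.card T = 4 := by
        rw [Nat.card_congr e.toEquiv, Nat.card_congr Multiplicative.toAdd, Nat.card_prod,
          Nat.card_zmod]; norm_num
      have heq : zc P = T := Subgroup.eq_of_le_of_card_ge zc_le (by rw [hcard, h.card_zc hr])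
      refine h.notAll ⟨⟨⟨⟨fun a b => Subtype.ext
        (commute_zc (heq.ge b.2) a.2)⟩⟩, fun a ha => by rw [sq]; exact (heq.ge ha).2.1⟩,
        fun x hx y hy hx1 hy1 => ?_⟩
      rcases hW4.cases hf (c := ⟨x, hx⟩) (w := ⟨y, hy⟩) (heq.ge hx :) (fun e => hx1
          (congrArg Subtype.val e)) (heq.ge hy :) with e1 | e1 | e1 | e1
      · exact absurd (congrArg Subtype.val e1) hy1
      · exact ⟨1, by simpa using (congrArg Subtype.val e1).symm⟩
      · exact ⟨n, (congrArg Subtype.val e1).symm⟩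
      · refine ⟨n * n, ((congrArg Subtype.val e1).trans ?_).symm⟩
        rw [hθ, hθ]
        group
    · exact h.nn (Cfsg.Agent.S0949.result P m hm2 e fun N hN hNo => by
        rw [eq_bot_iff, ← h.core]
        exact Constrained.le_pPrimeCore_of_not_dvd hN
          fun hd => Nat.not_even_iff_odd.2 hNo (even_iff_two_dvd.2 hd)).1
  · exact ⟨n, h, hh.1.card, hnN, hodd, hcube, hfpf, fun x hx => hh.1.sq ⟨x, hx⟩,
      fun x hx h2 => h.invol_mem hr hx h2, h.card_zc hr⟩

end CfsgLib.LocalFusion83
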