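import Cfsg.Agent.LocalFusion83.UnitarySets
import Cfsg.Agent.Chars.Basic.Linear
import Cfsg.Agent.Chars.Basic.Restrict
import Cfsg.Agent.Chars.Basic.Orthogonality

/-!
The values of an irreducible character on the unitary Sylow subgroup, by multiplicities.
-/

set_option autoImplicit false
set_option linter.style.haveILetI false
set_option linter.unusedSectionVars false

universe u

namespace CfsgLib.LocalFusion83

open Cfsg CfsgLib
open scoped ComplexConjugate

variable {G : Type u} [Group G] [Fintype G] {P : Sylow 2 G} {n : G}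

/-- The multiplicity of a linear character. -/
theorem exists_nat_mult (χ : IrrCharacter G) (H : Subgroup G) [Fintype H] (l : H →* ℂˣ)
    (f : G → ℂ) (hf : ∀ y : H, f y = conj (l y : ℂ)) :
    ∃ m : ℕ, ∑ y ∈ toSet H, (χ : G → ℂ) y * f y = (Nat.card H : ℂ) * m := by
  obtain ⟨m, hm⟩ := Chars.exists_nat_classInner
    (Chars.isCharacter_restrict (Chars.isCharacter_coe χ) H) (Chars.linChar l)
  refine ⟨m, ?_⟩
  have hne : (Nat.card H : ℂ) ≠ 0 := Nat.cast_ne_zero.2 Nat.card_pos.ne'
  rw [classInner] at hm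
  rw [← hm, ← mul_assoc, mul_inv_cancel₀ hne, one_mul, ← sum_coe_eq H]
  exact Finset.sum_congr rfl fun y _ => by rw [hf, Chars.linChar_apply]

namespace Unitary

variable (h : Unitary P n)

include h

theorem zc_conj {z z' : G} (hz : z ∈ zc P) (hz1 : z ≠ 1) (hz' : z' ∈ zc P) (hz1' : z' ≠ 1) :
    ∃ g : G, g * z * g⁻¹ = z' := by
  have hw := h.sigma_zc hz
  have hw1 : n * z * n⁻¹ ≠ 1 := fun e => hz1 (conj_eq_one_iff.1 e)
  have hne : z ≠ n * z * n⁻¹ := fun e =>
    hz1 (h.fpf z hz.1 (mul_inv_eq_iff_eq_mul.1 e.symm))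
  rcases CfsgLib.OmegaFour.eq_of_card_four h.card_zc (fun a ha => ha.2.1) hz hw hz1 hw1 hne hz'
    with e | e | e | e
  · exact absurd e hz1'
  · exact ⟨1, by simpa using e.symm⟩
  · exact ⟨n, e.symm⟩
  · refine ⟨n * n, ?_⟩
    rw [e, ← inv_eq_of_mul_eq_one_right (mul_mem hz hw).2.1, ← h.sigma_sigma hz.1]
    group

theorem apply_five (χ : IrrCharacter G) (V : Five P) {w : G} (hw : w ∈ V.1) (hwZ : w ∉ zc P) :
    (χ : G → ℂ) w = (χ : G → ℂ) V.rep := by
  obtain ⟨g, rfl⟩ := h.five_conj V hw hwZ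
  exact Chars.isClassFunction_coe χ V.rep g

theorem sum_zset (χ : IrrCharacter G) {z : G} (hz : z ∈ zc P) (hz1 : z ≠ 1) (f : G → ℂ) :
    ∑ y ∈ toSet (zc P), (χ : G → ℂ) y * f y =
      ((χ : G → ℂ) 1 - (χ : G → ℂ) z) * f 1 +
        (χ : G → ℂ) z * ∑ y ∈ toSet (zc P), f y := by
  classical
  have h1 : (1 : G) ∈ toSet (zc P) := mem_toSet.2 (one_mem _)
  rw [← Finset.add_sum_erase _ (fun y => (χ : G → ℂ) y * f y) h1,
    ← Finset.add_sum_erase _ f h1, mul_add, Finset.mul_sum]
  have e : ∀ y ∈ (toSet (zc P)).erase 1, (χ : G → ℂ) y * f y = (χ : G → ℂ) z * f y := by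
    intro y hy
    rw [Finset.mem_erase, mem_toSet] at hy
    obtain ⟨g, rfl⟩ := h.zc_conj hz hz1 hy.2 hy.1
    rw [Chars.isClassFunction_coe χ z g]
  rw [Finset.sum_congr rfl e]
  ring

theorem sum_five (χ : IrrCharacter G) {z : G} (hz : z ∈ zc P) (hz1 : z ≠ 1) (f : G → ℂ) :
    ∑ y ∈ toSet (P : Subgroup G), (χ : G → ℂ) y * f y =
      ((χ : G → ℂ) 1 - (χ : G → ℂ) z) * f 1 + (χ : G → ℂ) z * ∑ y ∈ toSet (zc P), f y +
        ∑ V : Five P, (χ : G → ℂ) V.rep * ∑ y ∈ off P V.1, f y := by
  rw [h.sum_split, h.sum_zset χ hz hz1]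
  congr 1
  refine Finset.sum_congr rfl fun V _ => ?_
  rw [Finset.mul_sum]
  refine Finset.sum_congr rfl fun y hy => ?_
  rw [mem_off] at hy
  rw [h.apply_five χ V hy.1 hy.2]

/-- The values of an irreducible character on `P`, in integral parameters. -/
theorem exists_data (χ : IrrCharacter G) {z : G} (hz : z ∈ zc P) (hz1 : z ≠ 1) :
    ∃ (A : Five P → ℤ) (B : ℤ) (k : ℕ),
      (∀ V : Five P, (χ : G → ℂ) V.rep = ((4 * A V - ∑ W, A W : ℤ) : ℂ)) ∧
      (χ : G → ℂ) z = ((3 * ∑ W, A W - 4 * B : ℤ) : ℂ) ∧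
      (charDegree (χ : G → ℂ) : ℤ) = 3 * ∑ W, A W - 4 * B + 16 * k := by
  classical
  set d := (χ : G → ℂ) 1 with hd
  set t := (χ : G → ℂ) z with ht
  set a : Five P → ℂ := fun V => (χ : G → ℂ) V.rep with ha
  have hZ4 : ∀ f : G → ℂ, (∀ y ∈ zc P, f y = 1) → ∑ y ∈ toSet (zc P), f y = 4 := fun f hf => by
    rw [Finset.sum_congr rfl fun y hy => hf y (mem_toSet.1 hy), Finset.sum_const, h.card_zset]
    norm_num
  -- the trivial character
  obtain ⟨m₁, hm₁⟩ := exists_nat_mult χ (P : Subgroup G) 1 (fun _ => 1) fun y => by simp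
  rw [h.sum_five χ hz hz1, hZ4 _ (fun _ _ => rfl), h.card] at hm₁
  simp only [Finset.sum_const, h.card_off, nsmul_eq_mul, mul_one] at hm₁
  rw [← Finset.sum_mul] at hm₁
  -- the sign characters
  have hsign : ∀ V : Five P, ∃ m : ℕ,
      d + 3 * t - 4 * (∑ W, a W) + 16 * a V = 64 * (m : ℂ) := by
    intro V
    obtain ⟨H, hHP, hVH, hmul, hother⟩ := h.exists_hyperplane V
    let f : G → ℂ := fun y => if y ∈ H then 1 else -1
    let l : (P : Subgroup G) →* ℂˣ := MonoidHom.mk' (fun y => if (y : G) ∈ H then 1 else -1)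
      fun x y => by
        have := hmul x x.2 y y.2
        by_cases h1 : (x : G) ∈ H <;> by_cases h2 : (y : G) ∈ H <;> simp_all
    obtain ⟨m, hm⟩ := exists_nat_mult χ (P : Subgroup G) l f fun y => by
      by_cases h1 : (y : G) ∈ H <;> simp [f, l, h1]
    have hoff : ∀ W : Five P, ∑ y ∈ off P W.1, f y = if W = V then 12 else -4 := by
      intro W
      split_ifs with hW
      · subst hW
        rw [Finset.sum_congr rfl fun y hy => show f y = 1 from if_pos (hVH (mem_off.1 hy).1),
          Finset.sum_const, h.card_off]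
        norm_num
      · obtain ⟨w, hw, hwH⟩ := SetLike.not_le_iff_exists.1 (hother W hW)
        have hneg : ∀ y ∈ W.1, f (y * w) = (-1) * f y := fun y hy => by
          have := hmul y (h.five_le W hy) w (h.five_le W hw)
          by_cases h1 : y ∈ H <;> simp [f, h1, hwH, this]
        have h0 := sum_eq_zero_of_translate W.1 f hw (c := -1) (by norm_num) hneg
        rw [sum_toSet_split (h.five_zc_le W),
          hZ4 f (fun y hy => if_pos (hVH (h.five_zc_le V hy)))] at h0
        linear_combination h0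
    rw [h.sum_five χ hz hz1, hZ4 f (fun y hy => if_pos (hVH (h.five_zc_le V hy))),
      show f 1 = 1 from if_pos (one_mem _), h.card,
      Finset.sum_congr rfl fun W _ => by rw [hoff W]] at hm
    refine ⟨m, ?_⟩
    have hsum : ∑ W : Five P, a W * (if W = V then (12 : ℂ) else -4) =
        -4 * (∑ W, a W) + 16 * a V := by
      have e : ∀ W : Five P, a W * (if W = V then (12 : ℂ) else -4) =
          (if W = V then 16 * a W else 0) + -4 * a W := fun W => by
        split_ifs <;> ring
      rw [Finset.sum_congr rfl fun W _ => e W, Finset.sum_add_distrib, Finset.sum_ite_eq',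
        if_pos (Finset.mem_univ _), ← Finset.mul_sum]
      ring
    push_cast at hm
    linear_combination hm - hsum
  choose m hm using hsign
  -- a linear character of an abelian subgroup moving `z`
  obtain ⟨k, hk⟩ : ∃ k : ℕ, d - t = 16 * (k : ℂ) := by
    have : Nonempty (Five P) := Fintype.card_pos_iff.1 (by rw [h.card_five]; norm_num)
    obtain ⟨V⟩ := this
    obtain ⟨l, hl⟩ := Chars.exists_linChar_ne_one (g := (⟨z, h.five_zc_le V hz⟩ : V.1)) (by
      intro hc
      have hbot : commutator V.1 = ⊥ := by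
        rw [commutator_def, Subgroup.commutator_eq_bot_iff_le_centralizer]
        exact fun a _ => Subgroup.mem_centralizer_iff.2 fun b _ =>
          Subtype.ext (h.five_comm V b b.2 a a.2)
      rw [hbot, Subgroup.mem_bot] at hc
      exact hz1 (congrArg Subtype.val hc))
    let f : G → ℂ := fun y => if hy : y ∈ V.1 then conj (l ⟨y, hy⟩ : ℂ) else 0
    obtain ⟨k, hk⟩ := exists_nat_mult χ V.1 l f fun y => dif_pos y.2
    set c : ℂ := conj (l ⟨z, h.five_zc_le V hz⟩ : ℂ) with hc
    have hc1 : c ≠ 1 := fun e => hl (Units.ext (by simpa [hc] using congrArg conj e))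
    have htr : ∀ y ∈ V.1, f (y * z) = c * f y := fun y hy => by
      simp only [f, dif_pos hy, dif_pos (mul_mem hy (h.five_zc_le V hz)), hc]
      rw [mul_comm, ← map_mul, ← Units.val_mul, ← map_mul]
      rfl
    have h0V := sum_eq_zero_of_translate V.1 f (h.five_zc_le V hz) hc1 htr
    have h0Z := sum_eq_zero_of_translate (zc P) f hz hc1 fun y hy => htr y (h.five_zc_le V hy)
    rw [sum_toSet_split (h.five_zc_le V), h0Z, zero_add] at h0V
    have hoff : ∑ y ∈ off P V.1, (χ : G → ℂ) y * f y = 0 := by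
      rw [Finset.sum_congr rfl fun y hy => by
        rw [h.apply_five χ V (mem_off.1 hy).1 (mem_off.1 hy).2], ← Finset.mul_sum, h0V, mul_zero]
    rw [sum_toSet_split (h.five_zc_le V), hoff, h.sum_zset χ hz hz1, h0Z, h.five_card,
      show f 1 = 1 by
        simp only [f, dif_pos (one_mem V.1)]
        rw [show (⟨1, one_mem V.1⟩ : V.1) = 1 from rfl, map_one, Units.val_one, map_one]] at hk
    exact ⟨k, by push_cast at hk; linear_combination hk⟩
  have hdeg : (charDegree (χ : G → ℂ) : ℂ) = d := Chars.coe_charDegree χ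
  set Sa := ∑ W, a W with hSa
  have hm₁' : d + 3 * t + 12 * Sa = 64 * (m₁ : ℂ) := by push_cast at hm₁; linear_combination hm₁
  set A : Five P → ℤ := fun V => (m V : ℤ) - m₁ with hA
  have hav : ∀ V, a V = 4 * (A V : ℂ) + Sa := fun V => by
    simp only [hA]; push_cast; linear_combination (hm V - hm₁') / 16
  have hS : Sa = -(∑ W, (A W : ℂ)) := by
    have : Sa = ∑ W : Five P, (4 * (A W : ℂ) + Sa) := Finset.sum_congr rfl fun W _ => hav W
    rw [Finset.sum_add_distrib, ← Finset.mul_sum, Finset.sum_const, Finset.card_univ,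
      h.card_five, nsmul_eq_mul] at this
    push_cast at this
    linear_combination (-1 / 4 : ℂ) * this
  refine ⟨A, (k : ℤ) - 4 * m₁, k, fun V => ?_, ?_, ?_⟩
  · show a V = _
    rw [hav V, hS]; push_cast; ring
  · show t = _
    push_cast
    linear_combination (1 / 4 : ℂ) * hm₁' - (1 / 4 : ℂ) * hk - 3 * hS
  · apply Int.cast_injective (α := ℂ)
    push_cast
    rw [hdeg]
    linear_combination (1 / 4 : ℂ) * hm₁' + (3 / 4 : ℂ) * hk - 3 * hS

end Unitary

end CfsgLib.LocalFusion83
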