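import Cfsg.Agent.LocalFusion83.UnitaryColumns
import Cfsg.Agent.LocalFusion83.UnitaryMult
import Cfsg.Agent.Blocks.Orth.Schur

/-!
Integral parameters of the principal block in the unitary configuration, with their relations.
-/

set_option autoImplicit false
set_option linter.style.haveILetI false
set_option linter.unusedSectionVars false

universe u

namespace CfsgLib.LocalFusion83

open Cfsg CfsgLib CfsgLib.Blocks
open CfsgLib.ConjFunctor.CyclicPairs (block mem_block)

variable {G : Type u} [Group G] [Fintype G] {P : Sylow 2 G} {n : G}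

open scoped Classical in
/-- The parameters and their relations. -/
structure Numbers (P : Sylow 2 G) where
  T : Finset (IrrCharacter G)
  A : IrrCharacter G → Five P → ℤ
  B : IrrCharacter G → ℤ
  d : IrrCharacter G → ℤ
  one_mem : Chars.oneChar G ∈ T
  A_one : ∀ V, A (Chars.oneChar G) V = -1
  B_one : B (Chars.oneChar G) = -4
  d_one : d (Chars.oneChar G) = 1
  d_pos : ∀ χ, 0 < d χ
  d_big : ∀ χ, χ ≠ Chars.oneChar G → (3 * ∑ W, A χ W - 4 * B χ) + 16 ≤ d χ
  gram : ∀ V W, ∑ χ ∈ T, A χ V * A χ W = (if V = W then 1 else 0) + 3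
  AB : ∀ V, ∑ χ ∈ T, A χ V * B χ = 12
  BB : ∑ χ ∈ T, B χ ^ 2 = 49
  deg : ∀ V, ∑ χ ∈ T, d χ * A χ V = 0
  cubic : ∑ χ ∈ T, ((∑ W, A χ W : ℤ) : ℚ) * ((3 * ∑ W, A χ W - 4 * B χ : ℤ) : ℚ) ^ 2 / (d χ : ℚ) = 0

namespace Unitary

variable (h : Unitary P n)

include h

/-- The 2-part of a product of two involutions is not conjugate to an element outside `zc P`. -/
theorem not_isConj_of_dihedral {a b u y : G} (ha : a * a = 1) (hb : b * b = 1)
    (hu : IsPPart 2 (a * b) u) (hy : y ∈ (P : Subgroup G)) (hyZ : y ∉ zc P) : ¬ IsConj y u := by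
  haveI : Fact (Nat.Prime 2) := ⟨Nat.prime_two⟩
  intro hc
  obtain ⟨g, hg⟩ := isConj_iff.1 hc.symm
  obtain ⟨k, hk⟩ := exists_pow_eq_isPPart (G := G) Nat.prime_two
  have hinv : a * u * a⁻¹ = u⁻¹ := by
    rw [← hk _ _ hu, ← conj_pow, ← inv_pow]
    congr 1
    rw [inv_eq_of_mul_eq_one_right ha, mul_inv_rev, inv_eq_of_mul_eq_one_right hb,
      inv_eq_of_mul_eq_one_right ha, ← mul_assoc, ha, one_mul]
  set a' := g * a * g⁻¹ with ha'
  have ha'2 : a' * a' = 1 := by
    rw [ha', show g * a * g⁻¹ * (g * a * g⁻¹) = g * (a * a) * g⁻¹ by group, ha]; group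
  have hy' : a' * y * a'⁻¹ = y⁻¹ := by
    rw [ha', ← hg, show g * a * g⁻¹ * (g * u * g⁻¹) * (g * a * g⁻¹)⁻¹ =
      g * (a * u * a⁻¹) * g⁻¹ by group, hinv]
    group
  have hYp : IsPGroup 2 (Subgroup.zpowers y) :=
    P.isPGroup'.to_le (Subgroup.zpowers_le.2 hy)
  have hAp : IsPGroup 2 (Subgroup.zpowers a') := by
    refine IsPGroup.iff_orderOf.2 fun x => ?_
    obtain ⟨i, -, hi⟩ := (Nat.dvd_prime_pow Nat.prime_two).1 (show orderOf x ∣ 2 ^ 1 from
      (orderOf_dvd_natCard x).trans (by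
        rw [Nat.card_zpowers, pow_one]
        exact orderOf_dvd_of_pow_eq_one (by rw [pow_two]; exact ha'2)))
    exact ⟨i, hi⟩
  have hnorm : Subgroup.zpowers a' ≤ Subgroup.normalizer (Subgroup.zpowers y : Set G) := by
    refine Subgroup.zpowers_le.2 (mem_normalizer_of_forall_conj ?_)
    rintro _ ⟨i, rfl⟩
    show a' * y ^ i * a'⁻¹ ∈ _
    rw [← conj_zpow, hy']
    exact zpow_mem (inv_mem (Subgroup.mem_zpowers y)) i
  have hsup := hAp.to_sup_of_normal_right' hYp hnorm
  obtain ⟨c, -, hcP⟩ := LocalCharP.exists_conj_mem_sylow P le_top _ le_top hsup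
  have h1 := hcP y (Subgroup.mem_sup_right (Subgroup.mem_zpowers y))
  have h2 := hcP a' (Subgroup.mem_sup_left (Subgroup.mem_zpowers a'))
  have h3 := h.invol _ h2 (by
    rw [show c * a' * c⁻¹ * (c * a' * c⁻¹) = c * (a' * a') * c⁻¹ by group, ha'2]; group)
  have h4 := commute_zc h3 h1
  have h5 : c * a' * c⁻¹ * (c * y * c⁻¹) * (c * a' * c⁻¹)⁻¹ = c * y⁻¹ * c⁻¹ := by
    rw [show c * a' * c⁻¹ * (c * y * c⁻¹) * (c * a' * c⁻¹)⁻¹ = c * (a' * y * a'⁻¹) * c⁻¹ by group,
      hy']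
  rw [← h4, mul_inv_cancel_right] at h5
  have h6 : y = y⁻¹ := mul_left_cancel (mul_right_cancel h5)
  exact hyZ (h.invol y hy (eq_inv_iff_mul_eq_one.1 h6))

theorem rep_inv (χ : IrrCharacter G) (V : Five P) :
    (χ : G → ℂ) V.rep⁻¹ = (χ : G → ℂ) V.rep := by
  obtain ⟨g, hg⟩ := h.exists_conj_inv V.rep_mem V.rep_notMem
  rw [← hg, Chars.isClassFunction_coe χ V.rep g]

/-- The parameters of the principal block. -/
theorem exists_numbers [IsSimpleGroup G] : Nonempty (Numbers P) := by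
  classical
  haveI : Fact (Nat.Prime 2) := ⟨Nat.prime_two⟩
  obtain ⟨M, hM⟩ := Blocks.exists_isPModular 2 Nat.prime_two
  haveI := isMaximal_of_isPModular hM
  obtain ⟨z, hz, hz1⟩ := h.hyp.exists_zc
  choose A B k ha ht hdeg using fun χ : IrrCharacter G => h.exists_data χ hz hz1
  set T := block G M with hT
  set S : IrrCharacter G → ℤ := fun χ => ∑ W, A χ W with hS
  have h5 := h.card_five
  haveI : Nonempty (Five P) := Fintype.card_pos_iff.1 (by rw [h5]; norm_num)
  have hzV : ∀ V : Five P, ¬ IsConj V.rep z := fun V hc => by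
    obtain ⟨g, hg⟩ := isConj_iff.1 hc
    exact (h.mem_cP_of_conj V.rep_mem V.rep_notMem (g := g) (hg ▸ hz.1)).2 (hg ▸ hz)
  have hrep1 : ∀ V : Five P, V.rep ≠ 1 := fun V e => V.rep_notMem (e ▸ one_mem _)
  have hdC : ∀ χ : IrrCharacter G, (χ : G → ℂ) 1 =
      ((3 * S χ - 4 * B χ + 16 * (k χ : ℤ) : ℤ) : ℂ) := fun χ => by
    rw [← hdeg χ, Int.cast_natCast, Chars.coe_charDegree]
  -- the orthogonality relations
  have haa : ∀ V W, ∑ χ ∈ T, (4 * A χ V - S χ) * (4 * A χ W - S χ) =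
      if V = W then 16 else 0 := by
    intro V W
    apply Int.cast_injective (α := ℂ)
    rw [Int.cast_sum]
    have e : ∑ χ ∈ T, (χ : G → ℂ) V.rep * (χ : G → ℂ) W.rep⁻¹ =
        if V = W then (16 : ℂ) else 0 := by
      split_ifs with hVW
      · subst hVW
        rw [h.column_self hM V.rep_mem (hrep1 V), ← V.eq_cP, h.five_card]
        norm_num
      · exact h.column_off hM (isPPart_self_of_mem V.rep_mem) W.rep_mem
          fun hc => hVW (h.five_eq_of_isConj hc).symm
    refine Eq.trans (Finset.sum_congr rfl fun χ _ => ?_) (e.trans (by split_ifs <;> norm_num))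
    rw [h.rep_inv χ W, ha, ha, Int.cast_mul]
  have hta : ∀ V, ∑ χ ∈ T, (3 * S χ - 4 * B χ) * (4 * A χ V - S χ) = 0 := by
    intro V
    apply Int.cast_injective (α := ℂ)
    rw [Int.cast_sum, Int.cast_zero, ← h.column_off hM (isPPart_self_of_mem hz.1) V.rep_mem (hzV V)]
    refine Finset.sum_congr rfl fun χ _ => ?_
    rw [h.rep_inv χ V, ha, ht, Int.cast_mul]
  have htt : ∑ χ ∈ T, (3 * S χ - 4 * B χ) ^ 2 = 64 := by
    apply Int.cast_injective (α := ℂ)
    have hcz : cP P z = (P : Subgroup G) := le_antisymm inf_le_left fun s hs =>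
      mem_cP.2 ⟨hs, commute_zc hz hs⟩
    rw [Int.cast_sum]
    refine Eq.trans (Finset.sum_congr rfl fun χ _ => ?_) ((h.column_self hM hz.1 hz1).trans (by
      rw [hcz, h.card]; norm_num))
    rw [inv_eq_of_mul_eq_one_right hz.2.1, ht, Int.cast_pow, pow_two]
  have hda : ∀ V, ∑ χ ∈ T, (charDegree (χ : G → ℂ) : ℤ) * (4 * A χ V - S χ) = 0 := by
    intro V
    apply Int.cast_injective (α := ℂ)
    rw [Int.cast_sum, Int.cast_zero, ← h.column_one hM V.rep_mem (hrep1 V)]
    refine Finset.sum_congr rfl fun χ _ => ?_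
    rw [h.rep_inv χ V, ha, Int.cast_mul, Int.cast_natCast, Chars.coe_charDegree]
  have hcub : ∀ V, ∑ χ ∈ T,
      ((3 * S χ - 4 * B χ : ℤ) : ℚ) ^ 2 * ((4 * A χ V - S χ : ℤ) : ℚ) /
        (charDegree (χ : G → ℂ) : ℚ) = 0 := by
    intro V
    apply (Rat.cast_injective (α := ℂ))
    push_cast
    have hz2 := hz.2.1
    have key : ∀ g : G, ∑ χ ∈ T, (χ : G → ℂ) (g * z * g⁻¹ * z) * (χ : G → ℂ) V.rep⁻¹ = 0 := by
      intro g
      obtain ⟨u, hu⟩ := exists_isPPart (G := G) Nat.prime_two (g * z * g⁻¹ * z)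
      refine h.column_off hM hu V.rep_mem (h.not_isConj_of_dihedral ?_ hz2 hu V.rep_mem V.rep_notMem)
      rw [show g * z * g⁻¹ * (g * z * g⁻¹) = g * (z * z) * g⁻¹ by group, hz2]; group
    have hG : (Nat.card G : ℂ) ≠ 0 := Nat.cast_ne_zero.2 Nat.card_pos.ne'
    have e : ∑ χ ∈ T, (χ : G → ℂ) z * (χ : G → ℂ) z * (χ : G → ℂ) V.rep⁻¹ / (χ : G → ℂ) 1 = 0 := by
      apply mul_left_cancel₀ hG
      rw [mul_zero, Finset.mul_sum, ← Finset.sum_eq_zero (s := Finset.univ) (fun g _ => key g),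
        Finset.sum_comm]
      refine Finset.sum_congr rfl fun χ _ => ?_
      rw [← Finset.sum_mul, sum_irrCharacter_conj_mul χ z z]
      ring
    refine Eq.trans (Finset.sum_congr rfl fun χ _ => ?_) e
    rw [h.rep_inv χ V, ht, ha, ← Chars.coe_charDegree χ]
    simp only [hS]
    push_cast
    ring
  -- consequences
  have hsum1 : ∀ χ, ∑ W, (4 * A χ W - S χ) = - S χ := fun χ => by
    rw [Finset.sum_sub_distrib, ← Finset.mul_sum, Finset.sum_const, Finset.card_univ, h5]
    simp only [hS, nsmul_eq_mul]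
    push_cast
    ring
  have hS80 : ∑ χ ∈ T, S χ * S χ = 80 := by
    have e : ∑ V : Five P, ∑ W : Five P, ∑ χ ∈ T, (4 * A χ V - S χ) * (4 * A χ W - S χ) =
        ∑ V : Five P, ∑ W : Five P, if V = W then (16 : ℤ) else 0 :=
      Finset.sum_congr rfl fun V _ => Finset.sum_congr rfl fun W _ => haa V W
    simp only [Finset.sum_ite_eq, Finset.mem_univ, if_true, Finset.sum_const, Finset.card_univ, h5,
      nsmul_eq_mul] at e
    rw [Finset.sum_congr rfl fun V _ => Finset.sum_comm, Finset.sum_comm] at e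
    rw [Finset.sum_congr rfl fun χ _ => by rw [← Finset.sum_mul_sum, hsum1 χ]] at e
    simpa using e
  have hAS : ∀ V, ∑ χ ∈ T, A χ V * S χ = 16 := by
    intro V
    have e : ∑ W : Five P, ∑ χ ∈ T, (4 * A χ V - S χ) * (4 * A χ W - S χ) =
        ∑ W : Five P, if V = W then (16 : ℤ) else 0 :=
      Finset.sum_congr rfl fun W _ => haa V W
    simp only [Finset.sum_ite_eq, Finset.mem_univ, if_true] at e
    rw [Finset.sum_comm, Finset.sum_congr rfl fun χ _ => by rw [← Finset.mul_sum, hsum1 χ]] at e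
    have e2 : ∑ χ ∈ T, (4 * A χ V - S χ) * -S χ =
        ∑ χ ∈ T, S χ * S χ - 4 * ∑ χ ∈ T, A χ V * S χ := by
      rw [Finset.mul_sum, ← Finset.sum_sub_distrib]
      exact Finset.sum_congr rfl fun χ _ => by ring
    rw [e2, hS80] at e
    linarith
  have hsum_zero : ∀ f : IrrCharacter G → ℤ, (∀ V, ∑ χ ∈ T, f χ * (4 * A χ V - S χ) = 0) →
      ∑ χ ∈ T, f χ * S χ = 0 ∧ ∀ V, ∑ χ ∈ T, f χ * A χ V = 0 := by
    intro f hf
    have h1 : ∑ χ ∈ T, f χ * S χ = 0 := by
      have e := Finset.sum_eq_zero (s := (Finset.univ : Finset (Five P))) fun V _ => hf V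
      rw [Finset.sum_comm, Finset.sum_congr rfl fun χ _ => by rw [← Finset.mul_sum, hsum1 χ]] at e
      simpa using e
    refine ⟨h1, fun V => ?_⟩
    have e := hf V
    simp only [mul_sub, Finset.sum_sub_distrib] at e
    rw [h1, sub_zero, Finset.sum_congr rfl fun χ _ => (mul_left_comm (f χ) 4 (A χ V)),
      ← Finset.mul_sum] at e
    linarith
  obtain ⟨htS, htA⟩ := hsum_zero _ hta
  obtain ⟨-, hdA⟩ := hsum_zero _ hda
  have hone_mem : Chars.oneChar G ∈ T := mem_block.2 oneChar_mem_principalBlock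
  have hA1 : ∀ V, A (Chars.oneChar G) V = -1 := by
    have e : ∀ V, 4 * A (Chars.oneChar G) V - S (Chars.oneChar G) = 1 := fun V =>
      Int.cast_injective (α := ℂ) (by rw [← ha, Chars.oneChar_apply, Int.cast_one])
    have e2 := hsum1 (Chars.oneChar G)
    rw [Finset.sum_congr rfl fun W _ => e W, Finset.sum_const, Finset.card_univ, h5] at e2
    simp only [nsmul_eq_mul] at e2
    push_cast at e2
    intro V
    have := e V
    omega
  have hd1 : charDegree (Chars.oneChar G : G → ℂ) = 1 :=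
    Chars.charDegree_eq_of_map_one (by rw [Chars.oneChar_apply, Nat.cast_one])
  refine ⟨{
    T := T, A := A, B := B, d := fun χ => (charDegree (χ : G → ℂ) : ℤ)
    one_mem := hone_mem, A_one := hA1, B_one := ?_, d_one := by simp [hd1]
    d_pos := fun χ => by exact_mod_cast Chars.charDegree_pos χ
    d_big := ?_, gram := ?_, AB := ?_, BB := ?_, deg := hdA, cubic := ?_ }⟩
  · have e : 3 * S (Chars.oneChar G) - 4 * B (Chars.oneChar G) = 1 :=
      Int.cast_injective (α := ℂ) (by rw [← ht, Chars.oneChar_apply, Int.cast_one])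
    simp only [hS, hA1, Finset.sum_const, Finset.card_univ, h5, nsmul_eq_mul] at e
    push_cast at e
    omega
  · intro χ hne
    show _ ≤ (charDegree (χ : G → ℂ) : ℤ)
    rw [hdeg χ]
    rcases Nat.eq_zero_or_pos (k χ) with hk | hk
    · exfalso
      have hker : z ∈ Chars.charKer (χ : G → ℂ) := by
        rw [Chars.mem_charKer_iff (Chars.isCharacter_coe χ), ht, hdC χ, hk]
        simp [hS]
      have htop : Chars.charKer (χ : G → ℂ) = ⊤ :=
        ((Chars.instNormalCharKer χ).eq_bot_or_eq_top).resolve_left fun e =>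
          hz1 (Subgroup.mem_bot.1 (e ▸ hker))
      have h0 := (Chars.sum_mul_map_inv χ (Chars.oneChar G)).trans (if_neg hne)
      have hconst : ∀ g ∈ (Finset.univ : Finset G),
          (χ : G → ℂ) g * (Chars.oneChar G : G → ℂ) g⁻¹ = (χ : G → ℂ) 1 := fun g _ => by
        have hg : g ∈ Chars.charKer (χ : G → ℂ) := by rw [htop]; exact Subgroup.mem_top g
        rw [Chars.oneChar_apply, mul_one, Chars.map_eq_map_one_of_mem_charKer hg]
      rw [Finset.sum_congr rfl hconst, Finset.sum_const, nsmul_eq_mul, mul_eq_zero] at h0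
      rcases h0 with h0 | h0
      · exact absurd (Nat.cast_eq_zero.1 h0) (Finset.card_pos.2 Finset.univ_nonempty).ne'
      · exact irrCharacter_one_ne_zero χ h0
    · omega
  · intro V W
    have e : ∑ χ ∈ T, (4 * A χ V - S χ) * (4 * A χ W - S χ) =
        16 * ∑ χ ∈ T, A χ V * A χ W - 4 * ∑ χ ∈ T, A χ V * S χ - 4 * ∑ χ ∈ T, A χ W * S χ +
          ∑ χ ∈ T, S χ * S χ := by
      simp only [Finset.mul_sum, ← Finset.sum_sub_distrib, ← Finset.sum_add_distrib]
      exact Finset.sum_congr rfl fun χ _ => by ring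
    rw [haa V W, hAS V, hAS W, hS80] at e
    split_ifs at e ⊢ <;> omega
  · intro V
    have e : ∑ χ ∈ T, (3 * S χ - 4 * B χ) * A χ V =
        3 * ∑ χ ∈ T, A χ V * S χ - 4 * ∑ χ ∈ T, A χ V * B χ := by
      simp only [Finset.mul_sum, ← Finset.sum_sub_distrib]
      exact Finset.sum_congr rfl fun χ _ => by ring
    rw [htA V, hAS V] at e
    omega
  · have e : ∑ χ ∈ T, (3 * S χ - 4 * B χ) * S χ =
        3 * ∑ χ ∈ T, S χ * S χ - 4 * ∑ χ ∈ T, S χ * B χ := by
      simp only [Finset.mul_sum, ← Finset.sum_sub_distrib]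
      exact Finset.sum_congr rfl fun χ _ => by ring
    have e2 : ∑ χ ∈ T, (3 * S χ - 4 * B χ) ^ 2 = 9 * ∑ χ ∈ T, S χ * S χ -
        24 * ∑ χ ∈ T, S χ * B χ + 16 * ∑ χ ∈ T, B χ ^ 2 := by
      simp only [Finset.mul_sum, ← Finset.sum_sub_distrib, ← Finset.sum_add_distrib]
      exact Finset.sum_congr rfl fun χ _ => by ring
    rw [htS, hS80] at e
    rw [htt, hS80] at e2
    omega
  · have e := Finset.sum_eq_zero (s := (Finset.univ : Finset (Five P))) fun V _ => hcub V
    rw [Finset.sum_comm] at e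
    rw [Finset.sum_congr rfl fun χ _ => by
      rw [← Finset.sum_div, ← Finset.mul_sum, ← Int.cast_sum, hsum1 χ]] at e
    rw [← neg_eq_zero, ← Finset.sum_neg_distrib, ← e]
    refine Finset.sum_congr rfl fun χ _ => ?_
    simp only [hS]
    push_cast
    ring

end Unitary

end CfsgLib.LocalFusion83
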