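import Cfsg.Agent.LocalFusion83.UnitarySets
import Cfsg.Agent.Blocks.AbelianFrobenius.Principal
import Cfsg.Agent.Blocks.Orth.Subsection
import Cfsg.Agent.ConjFunctor.CyclicPairs.Columns

/-!
The principal 2-block in the unitary configuration: its characters are constant on the sections of
the non-identity elements of `P`, and the columns of these elements.
-/

set_option autoImplicit false
set_option linter.style.haveILetI false
set_option linter.unusedSectionVars false

universe u

namespace CfsgLib.LocalFusion83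

open Cfsg CfsgLib CfsgLib.Blocks CfsgLib.Blocks.HeightZero
open CfsgLib.Blocks.AbelianFrobenius (exists_orderOf)
open CfsgLib.ConjFunctor.CyclicPairs (block mem_block)
open scoped Pointwise

variable {G : Type u} [Group G] [Fintype G] {P : Sylow 2 G} {n : G} {M : Ideal AlgInt}

theorem isPPart_self_of_mem {y : G} (hy : y ∈ (P : Subgroup G)) : IsPPart 2 y y :=
  haveI : Fact (Nat.Prime 2) := ⟨Nat.prime_two⟩
  ⟨1, mul_one _, Commute.one_right _, exists_orderOf (⟨y, hy⟩ : (P : Subgroup G)), by simp⟩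

namespace Unitary

variable (h : Unitary P n)

include h

/-- A normal 2-complement of the centraliser of a non-identity element of `P`. -/
theorem exists_complement {y : G} (hy : y ∈ (P : Subgroup G)) (hy1 : y ≠ 1) :
    ∃ K : Subgroup (Subgroup.centralizer ({y} : Set G)), K.Normal ∧ ¬ 2 ∣ Nat.card K ∧
      K.index = Nat.card (cP P y) ∧
      ∀ s : Subgroup.centralizer ({y} : Set G), ¬ 2 ∣ orderOf s → s ∈ K := by
  haveI : Fact (Nat.Prime 2) := ⟨Nat.prime_two⟩
  obtain ⟨z, hz, hz1, hyz⟩ : ∃ z ∈ zc P, z ≠ 1 ∧ ∀ c, c * y = y * c → c * z = z * c := by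
    by_cases hyZ : y ∈ zc P
    · exact ⟨y, hyZ, hy1, fun c hc => hc⟩
    · exact ⟨y * y, h.sq y hy, fun e => hyZ (h.invol y hy e), fun c hc => by
        rw [← mul_assoc, hc, mul_assoc, hc, mul_assoc]⟩
  set C := Subgroup.centralizer ({y} : Set G) with hC
  set K := (theta z).subgroupOf C with hK
  have hCz : ∀ c : C, (c : G) * z = z * c := fun c =>
    hyz c (Subgroup.mem_centralizer_singleton_iff.1 c.2)
  haveI hKn : K.Normal := ⟨fun x hx c => conj_mem_theta (hCz c) (Subgroup.mem_subgroupOf.1 hx)⟩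
  have hKodd : ∀ x : C, x ∈ K → Odd (orderOf x) := fun x hx => by
    rw [← Subgroup.orderOf_coe]; exact odd_orderOf_theta (Subgroup.mem_subgroupOf.1 hx)
  have hKcard : ¬ 2 ∣ Nat.card K := fun hd => by
    obtain ⟨x, hx⟩ := exists_prime_orderOf_dvd_card' 2 hd
    have := hKodd x x.2
    rw [Subgroup.orderOf_coe, hx] at this
    exact absurd this (by decide)
  refine ⟨K, hKn, hKcard, ?_, fun s hs => ?_⟩
  · set S := (cP P y).subgroupOf C with hS
    have hSC : cP P y ≤ C := inf_le_right
    have hdisj : Disjoint K S := by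
      rw [disjoint_iff, eq_bot_iff]
      intro x hx
      obtain ⟨j, hj⟩ := IsPGroup.iff_orderOf.1 P.isPGroup'
        ⟨(x : G), (mem_cP.1 (Subgroup.mem_subgroupOf.1 hx.2)).1⟩
      rw [Subgroup.orderOf_mk, Subgroup.orderOf_coe] at hj
      exact Subgroup.mem_bot.2 (orderOf_eq_one_iff.1 (Nat.eq_one_of_dvd_coprimes
        ((Nat.coprime_two_left.2 (hKodd x hx.1)).pow_left j) hj.dvd dvd_rfl))
    have huniv : (K : Set C) * (S : Set C) = Set.univ := by
      refine Set.eq_univ_of_forall fun c => ?_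
      obtain ⟨m, hm, s, hs, hdec⟩ := h.hyp.exists_decomp hz hz1 (hCz c)
      have hcy : (c : G) * y = y * c := Subgroup.mem_centralizer_singleton_iff.1 c.2
      have hyz' : y * z = z * y := hyz y rfl
      have h1 : y * s * y⁻¹ * s⁻¹ ∈ theta z := by
        have hconj : y * (m * s) * y⁻¹ = m * s := by
          rw [← hdec, ← hcy, mul_inv_cancel_right]
        have : y * s * y⁻¹ * s⁻¹ = (y * m * y⁻¹)⁻¹ * m := by
          calc y * s * y⁻¹ * s⁻¹ = (y * m * y⁻¹)⁻¹ * (y * (m * s) * y⁻¹) * s⁻¹ := by group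
            _ = (y * m * y⁻¹)⁻¹ * (m * s) * s⁻¹ := by rw [hconj]
            _ = _ := by group
        rw [this]
        exact mul_mem (inv_mem (conj_mem_theta hyz' hm)) hm
      have h2 : y * s * y⁻¹ * s⁻¹ ∈ (P : Subgroup G) :=
        mul_mem (mul_mem (mul_mem hy hs) (inv_mem hy)) (inv_mem hs)
      obtain ⟨j, hj⟩ := IsPGroup.iff_orderOf.1 P.isPGroup' ⟨_, h2⟩
      rw [Subgroup.orderOf_mk] at hj
      have hsy : s * y = y * s := (mul_inv_eq_iff_eq_mul.1 (mul_inv_eq_one.1
        (orderOf_eq_one_iff.1 (Nat.eq_one_of_dvd_coprimes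
          ((Nat.coprime_two_left.2 (odd_orderOf_theta h1)).pow_left j) hj.dvd dvd_rfl)))).symm
      have hsC : s ∈ C := Subgroup.mem_centralizer_singleton_iff.2 hsy
      have hmC : m ∈ C := by
        have := mul_mem c.2 (inv_mem hsC)
        rwa [hdec, mul_inv_cancel_right] at this
      exact ⟨⟨m, hmC⟩, hm, ⟨s, hsC⟩, mem_cP.2 ⟨hs, hsy⟩, Subtype.ext hdec.symm⟩
    rw [(Subgroup.isComplement'_of_disjoint_and_mul_eq_univ hdisj huniv).symm.index_eq_card, hS,
      Nat.card_congr (Subgroup.subgroupOfEquivOfLe hSC).toEquiv]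
  · refine Subgroup.mem_subgroupOf.2 (h.hyp.mem_theta_of_odd (orderOf_zc hz hz1) (hCz s) ?_)
    rw [Subgroup.orderOf_coe, ← Nat.not_even_iff_odd, even_iff_two_dvd]
    exact hs

/-- The principal block is constant on sections. -/
theorem apply_section (hM : IsPModular 2 M) {χ : IrrCharacter G} (hχ : χ ∈ block G M) {g y : G}
    (hg : IsPPart 2 g y) (hy : y ∈ (P : Subgroup G)) (hy1 : y ≠ 1) :
    (χ : G → ℂ) g = (χ : G → ℂ) y := by
  classical
  have := isMaximal_of_isPModular hM
  obtain ⟨s, rfl, hc, hu, hs⟩ := hg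
  obtain ⟨K, hKn, hKp, -, hKreg⟩ := h.exists_complement hy hy1
  have hsC : s ∈ Subgroup.centralizer ({y} : Set G) :=
    Subgroup.mem_centralizer_singleton_iff.2 hc.symm.eq
  haveI := Fintype.ofFinite (Subgroup.centralizer ({y} : Set G))
  have e1 := apply_section_eq_blockPart hM hu (mem_block.1 hχ) (s := ⟨s, hsC⟩)
    (by rwa [Subgroup.orderOf_mk])
  have e2 := apply_section_eq_blockPart hM hu (mem_block.1 hχ) (s := 1)
    (by simp)
  simp only [Subgroup.coe_one, mul_one] at e2
  refine e1.trans (Eq.trans ?_ e2.symm)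
  rw [blockPart_apply_eq, Finset.sum_apply, Finset.sum_apply]
  refine Finset.sum_congr rfl fun ψ hψ => ?_
  rw [Pi.smul_apply, Pi.smul_apply]
  congr 1
  exact Chars.map_eq_map_one_of_mem_charKer
    (le_charKer_of_mem_principalBlock K hM hKp ((Set.Finite.mem_toFinset _).1 hψ)
      (hKreg ⟨s, hsC⟩ (by rwa [Subgroup.orderOf_mk])))

/-- The squared column. -/
theorem column_self (hM : IsPModular 2 M) {y : G} (hy : y ∈ (P : Subgroup G)) (hy1 : y ≠ 1) :
    ∑ χ ∈ block G M, (χ : G → ℂ) y * (χ : G → ℂ) y⁻¹ = (Nat.card (cP P y) : ℂ) := by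
  classical
  haveI : Fact (Nat.Prime 2) := ⟨Nat.prime_two⟩
  have := isMaximal_of_isPModular hM
  obtain ⟨K, hKn, hKp, hKi, -⟩ := h.exists_complement hy hy1
  haveI := Fintype.ofFinite (Subgroup.centralizer ({y} : Set G))
  have hu : ∃ e : ℕ, orderOf y = 2 ^ e := exists_orderOf (⟨y, hy⟩ : (P : Subgroup G))
  have hsum := sum_principal_section (u := y) hM hu (s := 1) (by simp)
  simp only [Subgroup.coe_one, mul_one] at hsum
  unfold block
  rw [Finset.sum_congr rfl fun χ _ => by rw [Chars.map_inv_eq_conj (Chars.isCharacter_coe χ)], hsum,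
    ← hKi, ← Chars.sum_charDegree_sq_of_le_charKer (N := K), Nat.cast_sum]
  refine Finset.sum_congr ?_ fun ψ _ => ?_
  · ext ψ
    simp only [Set.Finite.mem_toFinset, Finset.mem_filter, Finset.mem_univ, true_and]
    refine ⟨fun h => le_charKer_of_mem_principalBlock K hM hKp h, fun h' => ?_⟩
    obtain ⟨k, hk⟩ := IsPGroup.iff_card.1 (P.isPGroup'.to_le
      (inf_le_left : cP P y ≤ (P : Subgroup G)))
    exact mem_principalBlock_of_le_charKer hM K ⟨k, hKi.trans hk⟩ h'
  · rw [← Chars.coe_charDegree, Complex.conj_natCast, Nat.cast_pow, pow_two]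

/-- Columns of non-conjugate elements are orthogonal. -/
theorem column_off (hM : IsPModular 2 M) {g u y : G} (hg : IsPPart 2 g u)
    (hy : y ∈ (P : Subgroup G)) (hne : ¬ IsConj y u) :
    ∑ χ ∈ block G M, (χ : G → ℂ) g * (χ : G → ℂ) y⁻¹ = 0 := by
  have := isMaximal_of_isPModular hM
  exact sum_mul_inv_eq_zero_of_pPart hM (isIntegralSet_block hM isPBlock_principalBlock) hg
    (isPPart_self_of_mem hy) hne

/-- A regular column is orthogonal to a singular one. -/
theorem column_one (hM : IsPModular 2 M) {y : G} (hy : y ∈ (P : Subgroup G)) (hy1 : y ≠ 1) :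
    ∑ χ ∈ block G M, (χ : G → ℂ) 1 * (χ : G → ℂ) y⁻¹ = 0 :=
  h.column_off hM (isPPart_self_of_mem (P := P) (one_mem _)) hy fun e => hy1 (isConj_one_right.1 e.symm)

end Unitary

end CfsgLib.LocalFusion83
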