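import Cfsg.Agent.LocalFusion83.UnitaryBlock
import Cfsg.Agent.Blocks.AbelianFrobenius.Coherent

/-!
The parameters of the principal block in the unitary configuration are contradictory.
-/

set_option autoImplicit false
set_option linter.style.haveILetI false
set_option linter.unusedSectionVars false

universe u

namespace CfsgLib.LocalFusion83

open Cfsg CfsgLib
open CfsgLib.Blocks.AbelianFrobenius (exists_signed_family)

section Numeric

variable {G : Type u} [Group G] [Fintype G] {P : Sylow 2 G}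

theorem Numbers.false (N : Numbers P) (h5 : Fintype.card (Five P) = 5) : False := by
  classical
  obtain ⟨T, A, B, d, h1T, hA1, hB1, hd1, hdpos, hdbig, hgram, hAB, hBB, hdeg, hcub⟩ := N
  set one := Chars.oneChar G with hone
  haveI : Nontrivial (Five P) := Fintype.one_lt_card_iff_nontrivial.1 (by omega)
  obtain ⟨V0, W0, hne⟩ := exists_pair_ne (Five P)
  obtain ⟨δ, ζ, hδ, hinj, hζT, hc⟩ := exists_signed_family T A d (fun x _ => hdpos x)
    ⟨V0, W0, hne⟩ (fun i j => by simp only [mul_sub, Finset.sum_sub_distrib, hdeg, sub_zero])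
    (fun i j k l => by simp only [sub_mul, mul_sub, Finset.sum_sub_distrib, hgram]; ring)
  have hδ2 : δ * δ = 1 := by rcases hδ with rfl | rfl <;> rfl
  have hζ1 : ∀ V, ζ V ≠ one := by
    intro V e
    obtain ⟨W, hW⟩ := exists_ne V
    have := hc one h1T V W
    rw [hA1, hA1, if_pos e.symm, if_neg (fun e' => hW (hinj (e'.symm.trans e.symm)))] at this
    rcases hδ with rfl | rfl <;> omega
  set r : IrrCharacter G → ℤ := fun x => A x V0 - δ * (if x = ζ V0 then 1 else 0) with hr
  have hA : ∀ x ∈ T, ∀ V, A x V = r x + δ * (if x = ζ V then 1 else 0) := fun x hx V => by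
    have := hc x hx V V0
    simp only [hr]
    linear_combination this
  set R := T.erase one with hR
  have hRT : ∀ {x}, x ∈ R → x ∈ T := fun hx => (Finset.mem_erase.1 hx).2
  have hζR : ∀ V, ζ V ∈ R := fun V => Finset.mem_erase.2 ⟨hζ1 V, hζT V⟩
  have split : ∀ f : IrrCharacter G → ℤ, ∑ x ∈ T, f x = f one + ∑ x ∈ R, f x := fun f =>
    (Finset.add_sum_erase T f h1T).symm
  have hgR : ∀ V W, ∑ x ∈ R, r x ^ 2 + δ * r (ζ V) + δ * r (ζ W) = 2 := by
    intro V W
    have e := hgram V W
    rw [split, hA1, hA1, Finset.sum_congr rfl fun x hx => show A x V * A x W =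
        r x ^ 2 + δ * (if x = ζ V then r x else 0) + δ * (if x = ζ W then r x else 0) +
          (if x = ζ V then (if x = ζ W then 1 else 0) else 0) by
      rw [hA x (hRT hx) V, hA x (hRT hx) W]
      split_ifs <;> first | ring1 | linear_combination hδ2] at e
    simp only [Finset.sum_add_distrib, ← Finset.mul_sum, Finset.sum_ite_eq', hζR, if_true,
      hinj.eq_iff] at e
    linarith
  have hBR : ∀ V, ∑ x ∈ R, r x * B x + δ * B (ζ V) = 8 := by
    intro V
    have e := hAB V
    rw [split, hA1, hB1, Finset.sum_congr rfl fun x hx => show A x V * B x =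
        r x * B x + δ * (if x = ζ V then B x else 0) by
      rw [hA x (hRT hx) V]; split_ifs <;> ring1] at e
    simp only [Finset.sum_add_distrib, ← Finset.mul_sum, Finset.sum_ite_eq', hζR, if_true] at e
    linarith
  -- the differences are carried by the five characters
  set Z := Finset.univ.image ζ with hZ
  have hZR : Z ⊆ R := by
    intro x hx
    obtain ⟨V, -, rfl⟩ := Finset.mem_image.1 hx
    exact hζR V
  have hzero : ∀ V, r (ζ V) = 0 := by
    have heq : ∀ V, r (ζ V) = r (ζ V0) := fun V => by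
      have e : δ * r (ζ V) = δ * r (ζ V0) := by linarith [hgR V V, hgR V V0]
      rcases hδ with rfl | rfl <;> linarith
    have hle : ∑ x ∈ Z, r x ^ 2 ≤ ∑ x ∈ R, r x ^ 2 :=
      Finset.sum_le_sum_of_subset_of_nonneg hZR fun x _ _ => sq_nonneg _
    rw [hZ, Finset.sum_image fun _ _ _ _ e => hinj e,
      Finset.sum_congr rfl fun V _ => by rw [heq V], Finset.sum_const, Finset.card_univ, h5,
      nsmul_eq_mul] at hle
    push_cast at hle
    have e := hgR V0 V0
    intro V
    rw [heq V]
    rcases le_or_gt (r (ζ V0)) (-1) with hlo | hlo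
    · rcases hδ with rfl | rfl <;> nlinarith
    · rcases eq_or_ne (r (ζ V0)) 0 with h0 | h0
      · exact h0
      · have : 1 ≤ r (ζ V0) := by omega
        rcases hδ with rfl | rfl <;> nlinarith
  have hQ : ∑ x ∈ R, r x ^ 2 = 2 := by
    have := hgR V0 V0
    rwa [hzero, mul_zero, add_zero, add_zero] at this
  set F := R.filter fun x => r x ≠ 0 with hF
  have hFsq : ∀ x ∈ F, r x ^ 2 = 1 := by
    intro x hx
    rw [hF, Finset.mem_filter] at hx
    have h2 : r x ^ 2 ≤ 2 := hQ ▸ Finset.single_le_sum (fun y _ => sq_nonneg (r y)) hx.1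
    have : r x ≤ 1 := by nlinarith
    have : -1 ≤ r x := by nlinarith
    rcases (show r x = 1 ∨ r x = -1 by omega) with e | e <;> rw [e] <;> rfl
  obtain ⟨a, b, hab, hFab⟩ : ∃ a b, a ≠ b ∧ F = {a, b} := by
    refine Finset.card_eq_two.1 ?_
    have e : ∑ x ∈ F, r x ^ 2 = 2 := by
      rw [hF, Finset.sum_filter_of_ne (p := fun x => r x ≠ 0)
        fun x _ hx => fun e => hx (by rw [e]; rfl)]
      exact hQ
    rw [Finset.sum_congr rfl hFsq, Finset.sum_const, nsmul_eq_mul, mul_one] at e
    exact_mod_cast e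
  have haF : a ∈ F := by simp [hFab]
  have hbF : b ∈ F := by simp [hFab]
  have hdis : ∀ x ∈ F, x ∉ Z := fun x hx hxZ => by
    obtain ⟨V, -, rfl⟩ := Finset.mem_image.1 hxZ
    exact (Finset.mem_filter.1 hx).2 (hzero V)
  have hXR : Z ∪ F ⊆ R := Finset.union_subset hZR (Finset.filter_subset _ _)
  have hdisj : Disjoint Z F := Finset.disjoint_right.2 hdis
  have hX : ∑ x ∈ R, r x * B x = r a * B a + r b * B b := by
    rw [← Finset.sum_pair hab (f := fun x => r x * B x), ← hFab, hF,
      Finset.sum_filter_of_ne (p := fun x => r x ≠ 0) fun x _ hx => left_ne_zero_of_mul hx]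
  have hBc : ∀ V, B (ζ V) = B (ζ V0) := fun V => by
    have e : δ * B (ζ V) = δ * B (ζ V0) := by linarith [hBR V, hBR V0]
    rcases hδ with rfl | rfl <;> linarith
  set m := δ * B (ζ V0) with hm
  have hsum : r a * B a + r b * B b + m = 8 := by rw [← hX]; exact hBR V0
  have hsq : 5 * m ^ 2 + (r a * B a) ^ 2 + (r b * B b) ^ 2 ≤ 33 := by
    have hle : ∑ x ∈ Z ∪ F, B x ^ 2 ≤ ∑ x ∈ R, B x ^ 2 :=
      Finset.sum_le_sum_of_subset_of_nonneg hXR fun x _ _ => sq_nonneg _
    have e33 : ∑ x ∈ R, B x ^ 2 = 33 := by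
      have := hBB
      rw [split, hB1] at this
      linarith
    rw [Finset.sum_union hdisj, hZ, Finset.sum_image fun _ _ _ _ e => hinj e,
      Finset.sum_congr rfl fun V _ => by rw [hBc V], Finset.sum_const, Finset.card_univ, h5,
      nsmul_eq_mul, hFab, Finset.sum_pair hab, e33] at hle
    rw [hm, mul_pow, mul_pow, mul_pow, hFsq a haF, hFsq b hbF,
      show δ ^ 2 = 1 by rw [pow_two, hδ2]]
    push_cast at hle
    linarith
  have hm01 : m = 0 ∨ m = 1 := by
    have h1 : 0 ≤ m := by nlinarith [sq_nonneg (r a * B a - r b * B b)]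
    have h2 : m ≤ 1 := by nlinarith [sq_nonneg (r a * B a - r b * B b)]
    omega
  -- the class sum relation
  set S : IrrCharacter G → ℤ := fun x => ∑ W, A x W with hS
  set f : IrrCharacter G → ℚ := fun x =>
    ((S x : ℤ) : ℚ) * ((3 * S x - 4 * B x : ℤ) : ℚ) ^ 2 / (d x : ℚ) with hf
  have hSR : ∀ x ∈ R, S x = 5 * r x + ∑ W, δ * (if x = ζ W then 1 else 0) := fun x hx => by
    simp only [hS]
    rw [Finset.sum_congr rfl fun W _ => hA x (hRT hx) W, Finset.sum_add_distrib, Finset.sum_const,
      Finset.card_univ, h5, nsmul_eq_mul]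
    norm_num
  have hSζ : ∀ V, S (ζ V) = δ := fun V => by
    rw [hSR _ (hζR V), hzero]
    simp [hinj.eq_iff]
  have hSoff : ∀ x ∈ R, x ∉ Z → S x = 5 * r x := fun x hx hxZ => by
    rw [hSR x hx, Finset.sum_eq_zero fun W _ => ?_, add_zero]
    rw [if_neg fun e => hxZ (Finset.mem_image.2 ⟨W, Finset.mem_univ _, e.symm⟩), mul_zero]
  have hbd : ∀ x ∈ R, ∀ c : ℚ, 0 ≤ c →
      (S x ≤ 0 ∨ ((S x : ℤ) : ℚ) * ((3 * S x - 4 * B x : ℤ) : ℚ) ^ 2 ≤
        c * ((3 * S x - 4 * B x + 16 : ℤ) : ℚ)) → f x ≤ c := by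
    intro x hx c hc0 hcase
    have hd : (0 : ℚ) < d x := by exact_mod_cast hdpos x
    rcases hcase with hneg | hle
    · refine le_trans (div_nonpos_of_nonpos_of_nonneg ?_ hd.le) hc0
      exact mul_nonpos_of_nonpos_of_nonneg (by exact_mod_cast hneg) (sq_nonneg _)
    · rw [hf, div_le_iff₀ hd]
      refine hle.trans (mul_le_mul_of_nonneg_left ?_ hc0)
      exact_mod_cast hdbig x (Finset.mem_erase.1 hx).1
  have hpair : ∀ x ∈ F, (r x * B x = 4 → f x ≤ 1 / 3) ∧ (r x * B x = 3 → f x ≤ 45 / 19) := by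
    intro x hx
    have hxR : x ∈ R := (Finset.mem_filter.1 hx).1
    have hs := hSoff x hxR (hdis x hx)
    have h1 : r x = 1 ∨ r x = -1 := by
      exact mul_self_eq_one_iff.1 (by rw [← pow_two, hFsq x hx])
    rcases h1 with e | e
    · refine ⟨fun h4 => hbd x hxR _ (by norm_num) (Or.inr ?_),
        fun h3 => hbd x hxR _ (by norm_num) (Or.inr ?_)⟩
      · rw [e, one_mul] at h4
        rw [hs, e, h4]; norm_num
      · rw [e, one_mul] at h3
        rw [hs, e, h3]; norm_num
    · exact ⟨fun _ => hbd x hxR _ (by norm_num) (Or.inl (by rw [hs, e]; norm_num)),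
        fun _ => hbd x hxR _ (by norm_num) (Or.inl (by rw [hs, e]; norm_num))⟩
  have hfive : ∀ V, f (ζ V) ≤ if m = 0 then 9 / 19 else 1 / 15 := by
    intro V
    refine hbd _ (hζR V) _ (by split_ifs <;> norm_num) ?_
    rcases hδ with rfl | rfl
    · right
      rw [one_mul] at hm
      rw [hSζ, hBc, ← hm]
      rcases hm01 with e | e <;> rw [e] <;> norm_num
    · left; rw [hSζ]; norm_num
  have htot : ∑ x ∈ T, f x = -5 + (∑ V, f (ζ V) + (f a + f b)) := by
    rw [← Finset.add_sum_erase T f h1T, ← hR, ← Finset.sum_subset hXR, Finset.sum_union hdisj,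
      hZ, Finset.sum_image fun _ _ _ _ e => hinj e, hFab, Finset.sum_pair hab]
    · congr 1
      rw [hf]
      simp only [hS, hA1, hB1, hd1, Finset.sum_const, Finset.card_univ, h5]
      norm_num
    · intro x hx hxX
      rw [Finset.mem_union, not_or] at hxX
      have hr0 : r x = 0 := by
        by_contra h0
        exact hxX.2 (Finset.mem_filter.2 ⟨hx, h0⟩)
      simp [hf, hSoff x hx hxX.1, hr0]
  have hfsum : ∑ V, f (ζ V) ≤ 5 * (if m = 0 then 9 / 19 else 1 / 15) := by
    refine (Finset.sum_le_sum fun V _ => hfive V).trans ?_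
    rw [Finset.sum_const, Finset.card_univ, h5, nsmul_eq_mul]
    norm_num
  have h0 : ∑ x ∈ T, f x = 0 := hcub
  rw [htot] at h0
  obtain ⟨ha4, ha3⟩ := hpair a haF
  obtain ⟨hb4, hb3⟩ := hpair b hbF
  rcases hm01 with e | e
  · rw [if_pos e] at hfsum
    have hab44 : r a * B a = 4 ∧ r b * B b = 4 := by
      rw [e] at hsum hsq
      have h1 : 4 ≤ r a * B a := by nlinarith
      have h2 : r a * B a ≤ 4 := by nlinarith
      omega
    linarith [ha4 hab44.1, hb4 hab44.2]
  · rw [if_neg (by omega)] at hfsum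
    have hab34 : (r a * B a = 3 ∧ r b * B b = 4) ∨ (r a * B a = 4 ∧ r b * B b = 3) := by
      rw [e] at hsum hsq
      have h1 : 3 ≤ r a * B a := by nlinarith
      have h2 : r a * B a ≤ 4 := by nlinarith
      omega
    rcases hab34 with ⟨ea, eb⟩ | ⟨ea, eb⟩
    · linarith [ha3 ea, hb4 eb]
    · linarith [ha4 ea, hb3 eb]

end Numeric

namespace Unitary

variable {G : Type u} [Group G] [Finite G] {P : Sylow 2 G} {n : G}

/-- There is no simple group with the unitary configuration. -/
protected theorem false [IsSimpleGroup G] (h : Unitary P n) : False := by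
  haveI := Fintype.ofFinite G
  obtain ⟨N⟩ := h.exists_numbers
  exact N.false h.card_five

end Unitary

end CfsgLib.LocalFusion83
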