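import Cfsg.Agent.LocalFusion83.RankTwo
import Cfsg.Agent.TwoFpf.Tables

/-!
The unitary Sylow 2-subgroup of order 64: the centralisers of its non-central elements are five
abelian groups of order 16, and conjugacy in `G` preserves each of them.
-/

set_option autoImplicit false
set_option linter.style.haveILetI false
set_option linter.unusedSectionVars false

universe u

open scoped commutatorElement

namespace CfsgLib.LocalFusion83

open Cfsg
open CfsgLib.OmegaFour (mem_normalizer_conj restrictAut restrictAut_coe)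

variable {G : Type u} [Group G] [Finite G] {P : Sylow 2 G} {n : G}

/-- The centraliser in `P`. -/
def cP (P : Sylow 2 G) (x : G) : Subgroup G :=
  (P : Subgroup G) ⊓ Subgroup.centralizer ({x} : Set G)

theorem mem_cP {x w : G} : w ∈ cP P x ↔ w ∈ (P : Subgroup G) ∧ w * x = x * w := by
  rw [cP, Subgroup.mem_inf, Subgroup.mem_centralizer_singleton_iff]

namespace Unitary

variable (h : Unitary P n)

include h

theorem sigma_mem {x : G} (hx : x ∈ (P : Subgroup G)) : n * x * n⁻¹ ∈ (P : Subgroup G) :=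
  mem_normalizer_conj h.norm hx

theorem sigma_zc {x : G} (hx : x ∈ zc P) : n * x * n⁻¹ ∈ zc P := normalizer_conj_zc h.norm hx

theorem sigma_cube {x : G} (hx : x ∈ (P : Subgroup G)) :
    n * (n * (n * x * n⁻¹) * n⁻¹) * n⁻¹ = x := by
  refine Eq.trans ?_ (mul_inv_eq_iff_eq_mul.2 (h.cube x hx))
  simp only [pow_succ, pow_zero, one_mul]
  group

theorem comm_mem {x y : G} (hx : x ∈ (P : Subgroup G)) (hy : y ∈ (P : Subgroup G)) :
    x * y * x⁻¹ * y⁻¹ ∈ zc P := by
  rw [show x * y * x⁻¹ * y⁻¹ =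
    (x * y) * (x * y) * (y⁻¹ * (x⁻¹ * x⁻¹) * y⁻¹⁻¹) * (y⁻¹ * y⁻¹) by group]
  refine mul_mem (mul_mem (h.sq _ (mul_mem hx hy)) ?_) (h.sq _ (inv_mem hy))
  rw [commute_zc (h.sq _ (inv_mem hx)) (inv_mem hy), mul_inv_cancel_right]
  exact h.sq _ (inv_mem hx)

theorem orbit_facts {x : G} (hx : x ∈ (P : Subgroup G)) :
    n * (n * x * n⁻¹) * n⁻¹ = (x * (n * x * n⁻¹))⁻¹ ∧ x * (n * x * n⁻¹) = n * x * n⁻¹ * x ∧
      ∀ y ∈ (P : Subgroup G), y * x = x * y →
        n * y * n⁻¹ * x = x * (n * y * n⁻¹) := by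
  set T := (P : Subgroup G) with hT
  let θ : MulAut T := restrictAut T (MulAut.conj n) fun a ha => by simpa using h.sigma_mem ha
  have hθ : ∀ a : T, ((θ a : T) : G) = n * a * n⁻¹ := fun a => rfl
  have hf : TwoFpf.IsFpfThree θ := by
    refine ⟨fun a => Subtype.ext ?_, fun a e => Subtype.ext ?_⟩
    · rw [hθ, hθ, hθ]; exact h.sigma_cube a.2
    · exact h.fpf a a.2 (mul_inv_eq_iff_eq_mul.1 ((hθ a).symm.trans (congrArg Subtype.val e)))
  refine ⟨?_, congrArg Subtype.val (hf.commute_apply ⟨x, hx⟩).eq, fun y hy e => ?_⟩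
  · exact eq_inv_of_mul_eq_one_right (congrArg Subtype.val (hf.prod_eq_one ⟨x, hx⟩))
  · have hcen : ∀ a b : T, ⁅a, b⁆ ∈ Subgroup.center T := fun a b =>
      Subgroup.mem_center_iff.2 fun c => Subtype.ext (commute_zc (h.comm_mem a.2 b.2) c.2)
    have he : ∀ a b : T, ⁅a, b⁆ * ⁅a, b⁆ = 1 := fun a b =>
      Subtype.ext (h.comm_mem a.2 b.2).2.1
    have h1 := (TwoFpf.table hf hcen ⟨x, hx⟩ ⟨y, hy⟩ he).1
    have h0 : ⁅(⟨x, hx⟩ : T), (⟨y, hy⟩ : T)⁆ = (1 : T) :=
      commutatorElement_eq_one_iff_mul_comm.2 (Subtype.ext e.symm)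
    rw [h0, map_one, map_one, commutatorElement_eq_one_iff_mul_comm] at h1
    exact (congrArg Subtype.val h1).symm

theorem sigma_sigma {x : G} (hx : x ∈ (P : Subgroup G)) :
    n * (n * x * n⁻¹) * n⁻¹ = (x * (n * x * n⁻¹))⁻¹ := (h.orbit_facts hx).1

theorem sigma_comm {x : G} (hx : x ∈ (P : Subgroup G)) :
    x * (n * x * n⁻¹) = n * x * n⁻¹ * x := (h.orbit_facts hx).2.1

/-- An invariant subgroup of `P` has order 1, 4, 16 or 64. -/
theorem card_cases (Y : Subgroup G) (hYP : Y ≤ (P : Subgroup G))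
    (hY : ∀ y ∈ Y, n * y * n⁻¹ ∈ Y) :
    Nat.card Y = 1 ∨ Nat.card Y = 4 ∨ Nat.card Y = 16 ∨ Nat.card Y = 64 := by
  classical
  haveI : Fact (Nat.Prime 3) := ⟨Nat.prime_three⟩
  haveI := Fintype.ofFinite Y
  let σ : Equiv.Perm {y : Y // y ≠ 1} :=
    { toFun := fun y => ⟨⟨n * y.1 * n⁻¹, hY _ y.1.2⟩, fun e => y.2
        (Subtype.ext (conj_eq_one_iff.1 (congrArg Subtype.val e)))⟩
      invFun := fun y => ⟨⟨n * (n * y.1 * n⁻¹) * n⁻¹, hY _ (hY _ y.1.2)⟩, fun e => y.2
        (Subtype.ext (conj_eq_one_iff.1 (conj_eq_one_iff.1 (congrArg Subtype.val e))))⟩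
      left_inv := fun y => Subtype.ext (Subtype.ext (h.sigma_cube (hYP y.1.2)))
      right_inv := fun y => Subtype.ext (Subtype.ext (h.sigma_cube (hYP y.1.2))) }
  have h3 : 3 ∣ Fintype.card {y : Y // y ≠ 1} := by
    by_contra hd
    obtain ⟨y, hy⟩ := Equiv.Perm.exists_fixed_point_of_prime (p := 3) (n := 1) hd (σ := σ) (by
      refine Equiv.ext fun y => Subtype.ext (Subtype.ext ?_)
      exact h.sigma_cube (hYP y.1.2))
    exact y.2 (Subtype.ext (h.fpf y.1 (hYP y.1.2) (mul_inv_eq_iff_eq_mul.1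
      (congrArg (fun z : {y : Y // y ≠ 1} => ((z : Y) : G)) hy))))
  rw [Fintype.card_subtype_compl, Fintype.card_subtype_eq, ← Nat.card_eq_fintype_card] at h3
  have hd := Subgroup.card_dvd_of_le hYP
  rw [h.card, show (64 : ℕ) = 2 ^ 6 from rfl] at hd
  obtain ⟨i, hi, he⟩ := (Nat.dvd_prime_pow Nat.prime_two).1 hd
  rw [he] at h3 ⊢
  interval_cases i <;> simp_all

theorem eq_of_card {Y : Subgroup G} (hYP : Y ≤ (P : Subgroup G)) (hY : Nat.card Y = 64) :
    Y = (P : Subgroup G) :=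
  Subgroup.eq_of_le_of_card_ge hYP (by rw [hY, h.card])

theorem not_comm : ¬ ∀ a ∈ (P : Subgroup G), ∀ b ∈ (P : Subgroup G), a * b = b * a := by
  intro hcomm
  let f : (P : Subgroup G) →* zc P := MonoidHom.mk' (fun a => ⟨(a : G) * a, h.sq a a.2⟩) fun a b =>
    Subtype.ext (by
      show (a : G) * b * (a * b) = a * a * (b * b)
      exact Commute.mul_mul_mul_comm (hcomm b b.2 a a.2) _ _)
  have h1 : Nat.card f.ker ≤ 4 := by
    rw [← h.card_zc]
    refine Nat.card_le_card_of_injective (fun a => (⟨((a : (P : Subgroup G)) : G),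
      h.invol _ (a : (P : Subgroup G)).2 (congrArg Subtype.val a.2)⟩ : zc P)) fun a b e => ?_
    exact Subtype.ext (Subtype.ext (congrArg Subtype.val e :))
  have h2 : Nat.card f.range ≤ 4 := by rw [← h.card_zc]; exact Subgroup.card_le_card_group _
  have h3 := f.ker.card_mul_index
  rw [Subgroup.index_ker, h.card] at h3
  nlinarith

/-- No element outside `zc P` is central in `P`. -/
theorem exists_noncomm {x : G} (hx : x ∈ (P : Subgroup G)) (hxZ : x ∉ zc P) :
    ∃ y ∈ (P : Subgroup G), y * x ≠ x * y := by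
  by_contra hcon
  push Not at hcon
  set C := (P : Subgroup G) ⊓ Subgroup.centralizer ((P : Subgroup G) : Set G) with hC
  have hCc : ∀ {c : G}, c ∈ C ↔ c ∈ (P : Subgroup G) ∧ ∀ y ∈ (P : Subgroup G), y * c = c * y := by
    intro c
    rw [hC, Subgroup.mem_inf, Subgroup.mem_centralizer_iff]
    rfl
  have hCinv : ∀ c ∈ C, n * c * n⁻¹ ∈ C := fun c hc => by
    rw [hCc] at hc ⊢
    refine ⟨h.sigma_mem hc.1, fun y hy => ?_⟩
    have hy' : n⁻¹ * y * n ∈ (P : Subgroup G) := by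
      simpa using mem_normalizer_conj (inv_mem h.norm) hy
    calc y * (n * c * n⁻¹) = n * (n⁻¹ * y * n * c) * n⁻¹ := by group
      _ = n * (c * (n⁻¹ * y * n)) * n⁻¹ := by rw [hc.2 _ hy']
      _ = n * c * n⁻¹ * y := by group
  have hZC : zc P ≤ C := fun z hz => hCc.2 ⟨hz.1, hz.2.2⟩
  have hC16 : 16 ≤ Nat.card C := by
    have h4 : 4 < Nat.card C := by
      by_contra hle
      push Not at hle
      exact hxZ ((Subgroup.eq_of_le_of_card_ge hZC (by rw [h.card_zc]; exact hle)).ge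
        (hCc.2 ⟨hx, hcon⟩))
    rcases h.card_cases C inf_le_left hCinv with e | e | e | e <;> omega
  obtain ⟨y, hy, hyC⟩ : ∃ y ∈ (P : Subgroup G), y ∉ C := by
    by_contra hall
    push Not at hall
    exact h.not_comm fun a ha b hb => (hCc.1 (hall b hb)).2 a ha
  set S : Set G := (C : Set G) ∪ {y, n * y * n⁻¹} with hS
  set Y := Subgroup.closure S with hY
  have hYP : Y ≤ (P : Subgroup G) := by
    rw [hY, Subgroup.closure_le]
    rintro w (hw | hw | hw)
    · exact (hCc.1 hw).1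
    · exact hw ▸ hy
    · rw [Set.mem_singleton_iff] at hw; exact hw ▸ h.sigma_mem hy
  have hyY : y ∈ Y := Subgroup.subset_closure (Or.inr (Or.inl rfl))
  have hy'Y : n * y * n⁻¹ ∈ Y := Subgroup.subset_closure (Or.inr (Or.inr rfl))
  have hYinv : ∀ w ∈ Y, n * w * n⁻¹ ∈ Y := by
    intro w hw
    have : Y ≤ Y.comap (MulAut.conj n).toMonoidHom := by
      rw [hY, Subgroup.closure_le]
      rintro w (hw | hw | hw)
      · exact Subgroup.subset_closure (Or.inl (hCinv w hw))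
      · rw [hw]; exact hy'Y
      · rw [Set.mem_singleton_iff] at hw
        rw [hw, SetLike.mem_coe, Subgroup.mem_comap]
        show n * (n * y * n⁻¹) * n⁻¹ ∈ Y
        rw [h.sigma_sigma hy]
        exact inv_mem (mul_mem hyY hy'Y)
    exact this hw
  have h64 : Y = (P : Subgroup G) := by
    refine h.eq_of_card hYP ?_
    have hlt : Nat.card C < Nat.card Y := by
      refine lt_of_le_of_ne (Subgroup.card_le_of_le fun c hc => Subgroup.subset_closure (Or.inl hc))
        fun e => hyC ?_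
      exact (Subgroup.eq_of_le_of_card_ge
        (fun c hc => Subgroup.subset_closure (Or.inl hc)) e.ge).ge hyY
    rcases h.card_cases Y hYP hYinv with e | e | e | e <;> omega
  haveI : IsMulCommutative Y := by
    refine Subgroup.isMulCommutative_closure ?_
    rintro a (ha | ha | ha) b (hb | hb | hb)
    all_goals first
      | exact ((hCc.1 hb).2 a (by
          first
            | exact (hCc.1 ha).1
            | exact ha ▸ hy
            | exact (Set.mem_singleton_iff.1 ha) ▸ h.sigma_mem hy))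
      | exact ((hCc.1 ha).2 b (by
          first
            | exact hb ▸ hy
            | exact (Set.mem_singleton_iff.1 hb) ▸ h.sigma_mem hy)).symm
      | (try simp only [Set.mem_singleton_iff] at ha
         try simp only [Set.mem_singleton_iff] at hb
         rw [ha, hb]
         all_goals first | rfl | exact h.sigma_comm hy | exact (h.sigma_comm hy).symm)
  exact h.not_comm fun a ha b hb => congrArg Subtype.val
    (mul_comm' (⟨a, h64.ge ha⟩ : Y) ⟨b, h64.ge hb⟩)

theorem zc_le_cP {x : G} (hx : x ∈ (P : Subgroup G)) : zc P ≤ cP P x := fun _ hz =>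
  mem_cP.2 ⟨hz.1, (commute_zc hz hx).symm⟩

theorem cP_invariant {x : G} (hx : x ∈ (P : Subgroup G)) {w : G} (hw : w ∈ cP P x) :
    n * w * n⁻¹ ∈ cP P x := by
  rw [mem_cP] at hw ⊢
  exact ⟨h.sigma_mem hw.1, (h.orbit_facts hx).2.2 w hw.1 hw.2⟩

theorem card_cP {x : G} (hx : x ∈ (P : Subgroup G)) (hxZ : x ∉ zc P) :
    Nat.card (cP P x) = 16 := by
  have hlo : 4 < Nat.card (cP P x) := by
    by_contra hle
    push Not at hle
    exact hxZ ((Subgroup.eq_of_le_of_card_ge (h.zc_le_cP hx) (by rw [h.card_zc]; exact hle)).ge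
      (mem_cP.2 ⟨hx, rfl⟩))
  rcases h.card_cases (cP P x) inf_le_left (fun w hw => h.cP_invariant hx hw) with e | e | e | e <;>
    try omega
  exfalso
  obtain ⟨y, hy, hyx⟩ := h.exists_noncomm hx hxZ
  exact hyx (mem_cP.1 ((h.eq_of_card inf_le_left e).ge hy)).2

/-- The centraliser of a non-central element is generated by `zc P`, the element and its image. -/
theorem cP_eq_closure {x : G} (hx : x ∈ (P : Subgroup G)) (hxZ : x ∉ zc P) :
    cP P x = Subgroup.closure ((zc P : Set G) ∪ {x, n * x * n⁻¹}) := by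
  set Y := Subgroup.closure ((zc P : Set G) ∪ {x, n * x * n⁻¹}) with hY
  have hle : Y ≤ cP P x := by
    rw [hY, Subgroup.closure_le]
    rintro w (hw | hw | hw)
    · exact h.zc_le_cP hx hw
    · rw [hw]; exact mem_cP.2 ⟨hx, rfl⟩
    · rw [Set.mem_singleton_iff] at hw
      rw [hw]; exact h.cP_invariant hx (mem_cP.2 ⟨hx, rfl⟩)
  have hxY : x ∈ Y := Subgroup.subset_closure (Or.inr (Or.inl rfl))
  have hx'Y : n * x * n⁻¹ ∈ Y := Subgroup.subset_closure (Or.inr (Or.inr rfl))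
  have hinv : ∀ w ∈ Y, n * w * n⁻¹ ∈ Y := by
    intro w hw
    have : Y ≤ Y.comap (MulAut.conj n).toMonoidHom := by
      rw [hY, Subgroup.closure_le]
      rintro w (hw | hw | hw)
      · exact Subgroup.subset_closure (Or.inl (h.sigma_zc hw))
      · rw [hw]; exact hx'Y
      · rw [Set.mem_singleton_iff] at hw
        rw [hw, SetLike.mem_coe, Subgroup.mem_comap]
        show n * (n * x * n⁻¹) * n⁻¹ ∈ Y
        rw [h.sigma_sigma hx]
        exact inv_mem (mul_mem hxY hx'Y)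
    exact this hw
  refine (Subgroup.eq_of_le_of_card_ge hle ?_).symm
  have hlo : 4 < Nat.card Y := by
    by_contra hle4
    push Not at hle4
    exact hxZ ((Subgroup.eq_of_le_of_card_ge (fun w hw => Subgroup.subset_closure (Or.inl hw))
      (by rw [h.card_zc]; exact hle4)).ge hxY)
  rw [h.card_cP hx hxZ]
  rcases h.card_cases Y (hle.trans inf_le_left) hinv with e | e | e | e <;> omega

theorem cP_comm {x : G} (hx : x ∈ (P : Subgroup G)) (hxZ : x ∉ zc P) :
    ∀ a ∈ cP P x, ∀ b ∈ cP P x, a * b = b * a := by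
  have hxx' : n * x * n⁻¹ ∈ (P : Subgroup G) := h.sigma_mem hx
  haveI : IsMulCommutative (Subgroup.closure ((zc P : Set G) ∪ {x, n * x * n⁻¹})) := by
    refine Subgroup.isMulCommutative_closure ?_
    rintro a (ha | ha | ha) b (hb | hb | hb)
    all_goals first
      | exact commute_zc hb (by
          first
            | exact ha.1
            | exact ha ▸ hx
            | exact (Set.mem_singleton_iff.1 ha) ▸ hxx')
      | exact (commute_zc ha (by
          first
            | exact hb ▸ hx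
            | exact (Set.mem_singleton_iff.1 hb) ▸ hxx')).symm
      | (try simp only [Set.mem_singleton_iff] at ha
         try simp only [Set.mem_singleton_iff] at hb
         rw [ha, hb]
         all_goals first | rfl | exact h.sigma_comm hx | exact (h.sigma_comm hx).symm)
  intro a ha b hb
  rw [h.cP_eq_closure hx hxZ] at ha hb
  exact congrArg Subtype.val (mul_comm' (⟨a, ha⟩ :
    Subgroup.closure ((zc P : Set G) ∪ {x, n * x * n⁻¹})) ⟨b, hb⟩)

theorem cP_eq_of_mem {x w : G} (hx : x ∈ (P : Subgroup G)) (hxZ : x ∉ zc P) (hw : w ∈ cP P x)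
    (hwZ : w ∉ zc P) : cP P w = cP P x := by
  refine (Subgroup.eq_of_le_of_card_ge (fun a ha => mem_cP.2
    ⟨(mem_cP.1 ha).1, h.cP_comm hx hxZ a ha w hw⟩) ?_).symm
  rw [h.card_cP hx hxZ, h.card_cP (mem_cP.1 hw).1 hwZ]

/-- The `P`-class of a non-central element is its coset of `zc P`. -/
theorem exists_conj_coset {x : G} (hx : x ∈ (P : Subgroup G)) (hxZ : x ∉ zc P) {z : G}
    (hz : z ∈ zc P) : ∃ s ∈ (P : Subgroup G), s * x * s⁻¹ = z * x := by
  let f : (P : Subgroup G) →* zc P := MonoidHom.mk'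
    (fun s => ⟨(s : G) * x * (s : G)⁻¹ * x⁻¹, h.comm_mem s.2 hx⟩) fun s t => Subtype.ext (by
      show (s : G) * t * x * ((s : G) * t)⁻¹ * x⁻¹ =
        (s : G) * x * (s : G)⁻¹ * x⁻¹ * ((t : G) * x * (t : G)⁻¹ * x⁻¹)
      rw [show (s : G) * t * x * ((s : G) * t)⁻¹ * x⁻¹ =
        (s : G) * ((t : G) * x * (t : G)⁻¹ * x⁻¹) * (x * (s : G)⁻¹ * x⁻¹) by group,
        commute_zc (h.comm_mem t.2 hx) s.2]
      rw [show (t : G) * x * (t : G)⁻¹ * x⁻¹ * (s : G) * (x * (s : G)⁻¹ * x⁻¹) =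
        ((t : G) * x * (t : G)⁻¹ * x⁻¹) * ((s : G) * x * (s : G)⁻¹ * x⁻¹) by group]
      exact (commute_zc (h.comm_mem t.2 hx) (h.comm_mem s.2 hx).1).symm)
  have hker : Nat.card f.ker ≤ 16 := by
    rw [← h.card_cP hx hxZ]
    refine Nat.card_le_card_of_injective (fun a => (⟨((a : (P : Subgroup G)) : G),
      mem_cP.2 ⟨(a : (P : Subgroup G)).2, ?_⟩⟩ : cP P x)) fun a b e =>
        Subtype.ext (Subtype.ext (congrArg Subtype.val e :))
    have h1 : ((a : (P : Subgroup G)) : G) * x * ((a : (P : Subgroup G)) : G)⁻¹ * x⁻¹ = 1 :=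
      congrArg Subtype.val a.2
    exact mul_inv_eq_iff_eq_mul.1 (mul_inv_eq_one.1 h1)
  have htop : f.range = ⊤ := by
    refine Subgroup.eq_top_of_le_card _ ?_
    rw [h.card_zc]
    have h3 := f.ker.card_mul_index
    rw [Subgroup.index_ker, h.card] at h3
    nlinarith
  obtain ⟨s, hs⟩ := (htop ▸ Subgroup.mem_top (⟨z, hz⟩ : zc P) : (⟨z, hz⟩ : zc P) ∈ f.range)
  exact ⟨s, s.2, mul_inv_eq_iff_eq_mul.1 (congrArg Subtype.val hs)⟩

theorem exists_conj_inv {x : G} (hx : x ∈ (P : Subgroup G)) (hxZ : x ∉ zc P) :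
    ∃ g : G, g * x * g⁻¹ = x⁻¹ := by
  obtain ⟨s, -, hs⟩ := h.exists_conj_coset hx hxZ (inv_mem (h.sq x hx))
  exact ⟨s, hs.trans (by group)⟩

/-- The elements outside `zc P` of one of the five groups are conjugate. -/
theorem exists_conj_of_mem {x w : G} (hx : x ∈ (P : Subgroup G)) (hxZ : x ∉ zc P)
    (hw : w ∈ cP P x) (hwZ : w ∉ zc P) : ∃ g : G, g * x * g⁻¹ = w := by
  set x' := n * x * n⁻¹ with hx'def
  have hx' : x' ∈ (P : Subgroup G) := h.sigma_mem hx
  have hform : ∀ w ∈ Subgroup.closure ((zc P : Set G) ∪ {x, x'}),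
      w ∈ (P : Subgroup G) ∧ ∃ i j : ℕ, ∃ z ∈ zc P, w = x ^ i * x' ^ j * z := by
    intro w hw
    induction hw using Subgroup.closure_induction with
    | mem a ha =>
      rcases ha with ha | ha | ha
      · exact ⟨ha.1, 0, 0, a, ha, by simp⟩
      · exact ⟨ha ▸ hx, 1, 0, 1, one_mem _, by simp [ha]⟩
      · rw [Set.mem_singleton_iff] at ha
        exact ⟨ha ▸ hx', 0, 1, 1, one_mem _, by simp [ha]⟩
    | one => exact ⟨one_mem _, 0, 0, 1, one_mem _, by simp⟩
    | mul a b _ _ iha ihb =>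
      obtain ⟨ha, i, j, z, hz, rfl⟩ := iha
      obtain ⟨hb, k, l, z', hz', rfl⟩ := ihb
      refine ⟨mul_mem ha hb, i + k, j + l, z * z', mul_mem hz hz', ?_⟩
      have hc : Commute x x' := h.sigma_comm hx
      have c1 : Commute z (x ^ k * x' ^ l) :=
        (commute_zc hz (mul_mem (pow_mem hx k) (pow_mem hx' l))).symm
      calc x ^ i * x' ^ j * z * (x ^ k * x' ^ l * z')
          = x ^ i * x' ^ j * (z * (x ^ k * x' ^ l)) * z' := by group
        _ = x ^ i * x' ^ j * (x ^ k * x' ^ l * z) * z' := by rw [c1.eq]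
        _ = x ^ i * (x' ^ j * x ^ k) * x' ^ l * (z * z') := by group
        _ = x ^ i * (x ^ k * x' ^ j) * x' ^ l * (z * z') := by rw [(hc.symm.pow_pow j k).eq]
        _ = x ^ (i + k) * x' ^ (j + l) * (z * z') := by rw [pow_add, pow_add]; group
    | inv a _ iha =>
      obtain ⟨ha, i, j, z, hz, hform⟩ := iha
      refine ⟨inv_mem ha, i, j, z * (a * a)⁻¹, mul_mem hz (inv_mem (h.sq a ha)), ?_⟩
      rw [← mul_assoc, ← hform]
      group
  rw [h.cP_eq_closure hx hxZ] at hw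
  obtain ⟨-, i, j, z, hz, rfl⟩ := hform w hw
  -- reduce the exponents modulo two
  have hred : ∀ (a : G), a ∈ (P : Subgroup G) → ∀ i : ℕ, ∃ z ∈ zc P, a ^ i = a ^ (i % 2) * z :=
    fun a ha i => ⟨(a * a) ^ (i / 2), pow_mem (h.sq a ha) _, by
      rw [← pow_two, ← pow_mul, ← pow_add, Nat.mod_add_div]⟩
  obtain ⟨z₁, hz₁, e₁⟩ := hred x hx i
  obtain ⟨z₂, hz₂, e₂⟩ := hred x' hx' j
  have hzc : z₁ * z₂ * z ∈ zc P := mul_mem (mul_mem hz₁ hz₂) hz
  have e : x ^ i * x' ^ j * z = x ^ (i % 2) * x' ^ (j % 2) * (z₁ * z₂ * z) := by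
    rw [e₁, e₂]
    have c1 : z₁ * x' ^ (j % 2) = x' ^ (j % 2) * z₁ := (commute_zc hz₁ (pow_mem hx' _)).symm
    calc x ^ (i % 2) * z₁ * (x' ^ (j % 2) * z₂) * z
        = x ^ (i % 2) * (z₁ * x' ^ (j % 2)) * z₂ * z := by group
      _ = x ^ (i % 2) * (x' ^ (j % 2) * z₁) * z₂ * z := by rw [c1]
      _ = _ := by group
  rw [e] at hwZ ⊢
  have key : ∀ y ∈ (P : Subgroup G), y ∉ zc P → (∃ g : G, g * x * g⁻¹ = y) → ∀ c ∈ zc P,
      ∃ g : G, g * x * g⁻¹ = y * c := by
    rintro y hy hyZ ⟨g, rfl⟩ c hc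
    obtain ⟨s, -, hs⟩ := h.exists_conj_coset hy hyZ hc
    refine ⟨s * g, ?_⟩
    rw [commute_zc hc hy, ← hs]
    group
  rcases Nat.mod_two_eq_zero_or_one i with hi | hi <;>
    rcases Nat.mod_two_eq_zero_or_one j with hj | hj <;> rw [hi, hj] at hwZ ⊢ <;>
    simp only [pow_zero, pow_one, one_mul, mul_one] at hwZ ⊢
  · exact absurd hzc hwZ
  · refine key x' hx' (fun e' => hwZ (mul_mem e' hzc)) ⟨n, rfl⟩ _ hzc
  · exact key x hx hxZ ⟨1, by simp⟩ _ hzc
  · set x'' := n * x' * n⁻¹ with hx''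
    have he : x * x' = x''⁻¹ := by rw [hx'', hx'def, h.sigma_sigma hx, inv_inv]
    have hx''P : x'' ∈ (P : Subgroup G) := h.sigma_mem hx'
    have e3 : x * x' * (z₁ * z₂ * z) = x'' * ((x'' * x'')⁻¹ * (z₁ * z₂ * z)) := by
      rw [he]; group
    rw [e3] at hwZ ⊢
    have hc := mul_mem (inv_mem (h.sq _ hx''P)) hzc
    exact key x'' hx''P (fun e' => hwZ (mul_mem e' hc)) ⟨n * n, by rw [hx'', hx'def]; group⟩ _ hc

/-- Conjugacy in `G` preserves the five groups. -/
theorem mem_cP_of_conj {x : G} (hx : x ∈ (P : Subgroup G)) (hxZ : x ∉ zc P) {g : G}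
    (hg : g * x * g⁻¹ ∈ (P : Subgroup G)) : g * x * g⁻¹ ∈ cP P x ∧ g * x * g⁻¹ ∉ zc P := by
  refine ⟨?_, fun hZ => hxZ ?_⟩
  · obtain ⟨m, hm, hmx⟩ := h.hyp.fus x hx _ hg ⟨g, rfl⟩
    rw [← hmx]
    obtain ⟨z, hz, hz1⟩ := h.hyp.exists_zc
    have hzz := normalizer_conj_zc hm hz
    have hzP : z ∈ (P : Subgroup G) := hz.1
    obtain ⟨i, hi⟩ : ∃ i : ℕ, m * z * m⁻¹ = n ^ i * z * (n ^ i)⁻¹ := by
      have hne : m * z * m⁻¹ ≠ 1 := fun e => hz1 (conj_eq_one_iff.1 e)
      have hfix : ∀ {a : G}, a ∈ zc P → a ≠ 1 → n * a * n⁻¹ ≠ a := fun ha ha1 e =>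
        ha1 (h.fpf _ ha.1 (mul_inv_eq_iff_eq_mul.1 e))
      have hz' := h.sigma_zc hz
      have hz'1 : n * z * n⁻¹ ≠ 1 := fun e => hz1 (conj_eq_one_iff.1 e)
      have hne' : z ≠ n * z * n⁻¹ := (hfix hz hz1).symm
      rcases CfsgLib.OmegaFour.eq_of_card_four h.card_zc (fun a ha => ha.2.1) hz hz' hz1 hz'1 hne'
        hzz with e | e | e | e
      · exact absurd e hne
      · exact ⟨0, by simpa using e⟩
      · exact ⟨1, by simpa using e⟩
      · refine ⟨2, e.trans ?_⟩
        rw [← inv_eq_of_mul_eq_one_right (mul_mem hz hz').2.1, ← h.sigma_sigma hzP]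
        simp only [pow_succ, pow_zero, one_mul]
        group
    set m' := (n ^ i)⁻¹ * m with hm'
    have hm'z : m' * z = z * m' := by
      refine mul_inv_eq_iff_eq_mul.1 ?_
      calc m' * z * m'⁻¹ = (n ^ i)⁻¹ * (m * z * m⁻¹) * n ^ i := by rw [hm']; group
        _ = z := by rw [hi]; group
    obtain ⟨a, ha, s, hs, hdec⟩ := h.hyp.exists_decomp hz hz1 hm'z
    have haN : a ∈ Subgroup.normalizer ((P : Subgroup G) : Set G) := by
      rw [show a = m' * s⁻¹ by rw [hdec]; group, hm']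
      exact mul_mem (mul_mem (inv_mem (pow_mem h.norm _)) hm) (inv_mem (Subgroup.le_normalizer hs))
    have hac : ∀ q ∈ (P : Subgroup G), a * q = q * a := fun q hq =>
      h.hyp.commute_of_odd_normalizing (orderOf_zc hz hz1) P.isPGroup'
        (fun q hq => commute_zc hz hq) (commute_of_mem_theta ha) (odd_orderOf_theta ha)
        (fun q hq => mem_normalizer_conj haN hq) hq
    have hsx : s * x * s⁻¹ ∈ cP P x := by
      rw [show s * x * s⁻¹ = s * x * s⁻¹ * x⁻¹ * x by group]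
      exact mul_mem (h.zc_le_cP hx (h.comm_mem hs hx)) (mem_cP.2 ⟨hx, rfl⟩)
    have hpow : ∀ (k : ℕ) (w : G), w ∈ cP P x → n ^ k * w * (n ^ k)⁻¹ ∈ cP P x := by
      intro k
      induction k with
      | zero => intro w hw; simpa using hw
      | succ k ih =>
        intro w hw
        rw [show n ^ (k + 1) * w * (n ^ (k + 1))⁻¹ = n ^ k * (n * w * n⁻¹) * (n ^ k)⁻¹ by
          rw [pow_succ]; group]
        exact ih _ (h.cP_invariant hx hw)
    rw [show m * x * m⁻¹ = n ^ i * (a * (s * x * s⁻¹) * a⁻¹) * (n ^ i)⁻¹ by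
      rw [show m = n ^ i * m' by rw [hm']; group, hdec]; group,
      hac _ (mul_mem (mul_mem hs hx) (inv_mem hs)), mul_inv_cancel_right]
    exact hpow i _ hsx
  · have := h.hyp.zc_closed hZ (g := g⁻¹) (by simpa [mul_assoc] using hx)
    simpa [mul_assoc] using this

end Unitary

end CfsgLib.LocalFusion83
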