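import Cfsg.Agent.LocalFusion83.UnitaryLocal
import Mathlib.Algebra.BigOperators.Group.Finset.Basic

/-!
The five abelian subgroups of order 16, sums over the Sylow subgroup, and sign characters.
-/

set_option autoImplicit false
set_option linter.style.haveILetI false
set_option linter.unusedSectionVars false

universe u

namespace CfsgLib.LocalFusion83

open Cfsg

variable {G : Type u} [Group G] [Fintype G] {P : Sylow 2 G} {n : G}

/-- The five subgroups. -/
def Five (P : Sylow 2 G) : Type u :=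
  {V : Subgroup G // ∃ x ∈ (P : Subgroup G), x ∉ zc P ∧ V = cP P x}

noncomputable instance : Fintype (Five P) :=
  haveI : Finite (Five P) := by unfold Five; infer_instance
  Fintype.ofFinite _

/-- A representative. -/
noncomputable def Five.rep (V : Five P) : G := V.2.choose

theorem Five.rep_mem (V : Five P) : V.rep ∈ (P : Subgroup G) := V.2.choose_spec.1

theorem Five.rep_notMem (V : Five P) : V.rep ∉ zc P := V.2.choose_spec.2.1

theorem Five.eq_cP (V : Five P) : V.1 = cP P V.rep := V.2.choose_spec.2.2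

/-- A subgroup as a finset. -/
noncomputable def toSet (H : Subgroup G) : Finset G :=
  letI : DecidablePred (· ∈ H) := fun _ => Classical.propDecidable _
  Finset.univ.filter (· ∈ H)

theorem mem_toSet {H : Subgroup G} {g : G} : g ∈ toSet H ↔ g ∈ H := by simp [toSet]

theorem card_toSet (H : Subgroup G) : (toSet H).card = Nat.card H :=
  (Nat.subtype_card _ fun _ => mem_toSet).symm

open scoped Classical in
/-- The elements of a subgroup outside `zc P`. -/
noncomputable def off (P : Sylow 2 G) (H : Subgroup G) : Finset G :=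
  toSet H \ toSet (zc P)

theorem mem_off {H : Subgroup G} {g : G} : g ∈ off P H ↔ g ∈ H ∧ g ∉ zc P := by
  classical
  simp [off, mem_toSet]

open scoped Classical in
theorem sum_toSet_split {H : Subgroup G} (hH : zc P ≤ H) (f : G → ℂ) :
    ∑ y ∈ toSet H, f y = ∑ y ∈ toSet (zc P), f y + ∑ y ∈ off P H, f y := by
  rw [off, add_comm, Finset.sum_sdiff fun y hy => mem_toSet.2 (hH (mem_toSet.1 hy))]

theorem sum_coe_eq (H : Subgroup G) [Fintype H] (f : G → ℂ) :
    ∑ y : H, f y = ∑ y ∈ toSet H, f y :=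
  (Finset.sum_subtype (toSet H) (fun _ => mem_toSet) f).symm

/-- A function changing sign under a translation of the subgroup sums to zero. -/
theorem sum_eq_zero_of_translate (H : Subgroup G) (f : G → ℂ) {w : G} (hw : w ∈ H) {c : ℂ}
    (hc : c ≠ 1) (hf : ∀ y ∈ H, f (y * w) = c * f y) : ∑ y ∈ toSet H, f y = 0 := by
  classical
  have h1 : ∑ y ∈ toSet H, f (y * w) = ∑ y ∈ toSet H, f y :=
    Finset.sum_equiv (Equiv.mulRight w) (fun y => by
      rw [mem_toSet, mem_toSet, Equiv.coe_mulRight]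
      exact (Subgroup.mul_mem_cancel_right H hw).symm) fun y _ => rfl
  rw [Finset.sum_congr rfl fun y hy => hf y (mem_toSet.1 hy), ← Finset.mul_sum] at h1
  have : (c - 1) * ∑ y ∈ toSet H, f y = 0 := by linear_combination h1
  exact (mul_eq_zero.1 this).resolve_left (sub_ne_zero.2 hc)

namespace Unitary

variable (h : Unitary P n)

include h

theorem five_le (V : Five P) : V.1 ≤ (P : Subgroup G) := V.eq_cP ▸ inf_le_left

theorem five_zc_le (V : Five P) : zc P ≤ V.1 := V.eq_cP ▸ h.zc_le_cP V.rep_mem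

theorem five_card (V : Five P) : Nat.card V.1 = 16 := by
  rw [V.eq_cP]; exact h.card_cP V.rep_mem V.rep_notMem

theorem five_comm (V : Five P) : ∀ a ∈ V.1, ∀ b ∈ V.1, a * b = b * a := by
  rw [V.eq_cP]; exact h.cP_comm V.rep_mem V.rep_notMem

theorem five_invariant (V : Five P) {w : G} (hw : w ∈ V.1) : n * w * n⁻¹ ∈ V.1 := by
  rw [V.eq_cP] at hw ⊢; exact h.cP_invariant V.rep_mem hw

theorem five_eq_cP_of_mem (V : Five P) {w : G} (hw : w ∈ V.1) (hwZ : w ∉ zc P) :
    cP P w = V.1 := by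
  rw [V.eq_cP] at hw ⊢; exact h.cP_eq_of_mem V.rep_mem V.rep_notMem hw hwZ

theorem rep_mem_five (V : Five P) : V.rep ∈ V.1 := V.eq_cP ▸ mem_cP.2 ⟨V.rep_mem, rfl⟩

theorem five_conj (V : Five P) {w : G} (hw : w ∈ V.1) (hwZ : w ∉ zc P) :
    ∃ g : G, g * V.rep * g⁻¹ = w :=
  h.exists_conj_of_mem V.rep_mem V.rep_notMem (V.eq_cP ▸ hw) hwZ

/-- Representatives of different subgroups are not conjugate. -/
theorem five_eq_of_isConj {V W : Five P} (hc : IsConj V.rep W.rep) : V = W := by
  obtain ⟨g, hg⟩ := isConj_iff.1 hc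
  have h1 := (h.mem_cP_of_conj V.rep_mem V.rep_notMem (g := g) (hg ▸ W.rep_mem)).1
  rw [hg, ← V.eq_cP] at h1
  exact Subtype.ext ((h.five_eq_cP_of_mem V h1 W.rep_notMem).symm.trans W.eq_cP.symm)

theorem card_zset : (toSet (zc P)).card = 4 := by rw [card_toSet, h.card_zc]

theorem card_off (V : Five P) : (off P V.1).card = 12 := by
  classical
  rw [off, Finset.card_sdiff_of_subset fun y hy => mem_toSet.2 (h.five_zc_le V (mem_toSet.1 hy)),
    card_toSet, h.five_card, h.card_zset]

theorem sum_split (f : G → ℂ) :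
    ∑ y ∈ toSet (P : Subgroup G), f y =
      ∑ y ∈ toSet (zc P), f y + ∑ V : Five P, ∑ y ∈ off P V.1, f y := by
  classical
  rw [sum_toSet_split zc_le, add_right_inj, ← Finset.sum_biUnion]
  · refine Finset.sum_congr (Finset.ext fun y => ?_) fun _ _ => rfl
    simp only [Finset.mem_biUnion, Finset.mem_univ, true_and, mem_off]
    exact ⟨fun hy => ⟨⟨cP P y, y, hy.1, hy.2, rfl⟩, mem_cP.2 ⟨hy.1, rfl⟩, hy.2⟩,
      fun ⟨V, hy, hyZ⟩ => ⟨h.five_le V hy, hyZ⟩⟩
  · intro V _ W _ hne
    refine Finset.disjoint_left.2 fun y hy hy' => hne ?_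
    rw [mem_off] at hy hy'
    exact Subtype.ext ((h.five_eq_cP_of_mem V hy.1 hy.2).symm.trans
      (h.five_eq_cP_of_mem W hy'.1 hy'.2))

theorem card_five : Fintype.card (Five P) = 5 := by
  have e := h.sum_split fun _ => (1 : ℂ)
  simp only [Finset.sum_const, nsmul_eq_mul, mul_one, card_toSet, h.card, h.card_zc,
    h.card_off, Finset.card_univ] at e
  have e' : (64 : ℕ) = 4 + Fintype.card (Five P) * 12 := by exact_mod_cast e
  omega

/-- An index-two subgroup containing one of the five subgroups and no other. -/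
theorem exists_hyperplane (V : Five P) : ∃ H : Subgroup G, H ≤ (P : Subgroup G) ∧
    V.1 ≤ H ∧ (∀ a ∈ (P : Subgroup G), ∀ b ∈ (P : Subgroup G),
      a * b ∈ H ↔ (a ∈ H ↔ b ∈ H)) ∧ ∀ W : Five P, W ≠ V → ¬ W.1 ≤ H := by
  haveI : Fact (Nat.Prime 2) := ⟨Nat.prime_two⟩
  set T := (P : Subgroup G) with hT
  obtain ⟨K, hK, hVK⟩ := Sylow.exists_subgroup_card_pow_prime_le 2 (n := 4) (m := 5)
    (show 2 ^ 5 ∣ Nat.card T by rw [h.card]; norm_num) (V.1.subgroupOf T)
    (by rw [Nat.card_congr (Subgroup.subgroupOfEquivOfLe (h.five_le V)).toEquiv, h.five_card]; rfl)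
    (by norm_num)
  have hidx : K.index = 2 := by
    have h1 := K.card_mul_index
    rw [hK, h.card] at h1
    omega
  have hcard : Nat.card (K.map T.subtype : Subgroup G) = 32 := by
    rw [Subgroup.card_map_of_injective T.subtype_injective, hK]; rfl
  refine ⟨K.map T.subtype, Subgroup.map_subtype_le _, fun v hv =>
    ⟨⟨v, h.five_le V hv⟩, hVK (Subgroup.mem_subgroupOf.2 hv), rfl⟩, fun a ha b hb => ?_,
    fun W hne hWH => ?_⟩
  · have hiff : ∀ c (hc : c ∈ T), c ∈ K.map T.subtype ↔ (⟨c, hc⟩ : T) ∈ K := fun c hc =>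
      ⟨fun ⟨y, hy, e⟩ => (Subtype.ext e : y = ⟨c, hc⟩) ▸ hy, fun hy => ⟨_, hy, rfl⟩⟩
    rw [hiff _ (mul_mem ha hb), hiff a ha, hiff b hb]
    exact Subgroup.mul_mem_iff_of_index_two hidx (a := (⟨a, ha⟩ : T)) (b := ⟨b, hb⟩)
  · have hVH : V.1 ≤ K.map T.subtype := fun v hv =>
      ⟨⟨v, h.five_le V hv⟩, hVK (Subgroup.mem_subgroupOf.2 hv), rfl⟩
    set Y := V.1 ⊔ W.1 with hY
    have hYH : Y ≤ K.map T.subtype := sup_le hVH hWH
    have hinv : ∀ y ∈ Y, n * y * n⁻¹ ∈ Y := by
      intro y hy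
      have : Y ≤ Y.comap (MulAut.conj n).toMonoidHom :=
        sup_le (fun v hv => Subgroup.mem_sup_left (h.five_invariant V hv))
          fun v hv => Subgroup.mem_sup_right (h.five_invariant W hv)
      exact this hy
    have hgt : 16 < Nat.card Y := by
      refine lt_of_le_of_ne ((h.five_card V).ge.trans (Subgroup.card_le_of_le le_sup_left))
        fun e => hne ?_
      have h1 : V.1 = Y := Subgroup.eq_of_le_of_card_ge le_sup_left (by rw [← e, h.five_card])
      have h2 : W.rep ∈ V.1 := h1.ge (Subgroup.mem_sup_right (h.rep_mem_five W))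
      exact Subtype.ext (W.eq_cP.trans (h.five_eq_cP_of_mem V h2 W.rep_notMem))
    have h32 := Subgroup.card_le_of_le hYH
    rw [hcard] at h32
    rcases h.card_cases Y (hYH.trans (Subgroup.map_subtype_le _)) hinv with e | e | e | e <;> omega

end Unitary

end CfsgLib.LocalFusion83
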